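import Cfsg.Agent.Lib.Invol.Goldschmidt.RankThree.Section
import Cfsg.Agent.Lib.Invol.Goldschmidt.Sections.Point
import Cfsg.Agent.Lib.Invol.Goldschmidt.DichotomyEight
import Cfsg.Agent.Lib.Invol.Goldschmidt.Assembly

/-!
Owner: helper18. S1169, `|A| = 8`: the centralisers modulo their cores give the data of `rankThree`.

* `IsStronglyClosed.of_sylow`: strong closure passes to another Sylow subgroup containing the subgroup.
* `pointSection`: `C(a)/O(C(a))` contains a copy of `S`.
* `false_of_eight`: `|A| = 8` with a moved component.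
-/

set_option autoImplicit false
set_option linter.style.haveILetI false

namespace CfsgLib.Invol.Goldschmidt.RankThree

open Subgroup Cfsg Point

universe u

/-- Strong closure passes to another Sylow subgroup containing the subgroup. -/
theorem closed_of_sylow {X : Type u} [Group X] [Finite X] {T T' : Sylow 2 X} {B : Subgroup X}
    (h : Cfsg.IsStronglyClosed B (T : Subgroup X)) (hB : B ≤ (T' : Subgroup X)) :
    Cfsg.IsStronglyClosed B (T' : Subgroup X) := by
  haveI : Fact (Nat.Prime 2) := ⟨Nat.prime_two⟩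
  obtain ⟨q, hq⟩ := MulAction.exists_smul_eq X T' T
  have hmem : ∀ {x : X}, x ∈ (T' : Subgroup X) → q * x * q⁻¹ ∈ (T : Subgroup X) := fun {x} hx => by
    rw [← hq, Sylow.coe_subgroup_smul]
    exact ⟨x, hx, rfl⟩
  have hqB : q ∈ normalizer (B : Set X) := mem_normalizer_fintype fun x hx => h.2 x hx q (hmem (hB hx))
  refine ⟨hB, fun x hx g hg => (mem_normalizer_iff.1 hqB _).2 ?_⟩
  have := h.2 x hx (q * g) (by
    rw [show q * g * x * (q * g)⁻¹ = q * (g * x * g⁻¹) * q⁻¹ by group]
    exact hmem hg)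
  rwa [show q * g * x * (q * g)⁻¹ = q * (g * x * g⁻¹) * q⁻¹ by group] at this

variable {G : Type u} [Group G] [Finite G] {S : Sylow 2 G} {A : Subgroup G}

/-- The data of `rankThree` at a point. -/
theorem pointSection (c : Ctx S A) (hSC : (S : Subgroup G) ≤ centralizer (A : Set G)) {a : G} (ha : a ∈ A)
    (ha1 : a ≠ 1) {K : Subgroup (Quo a)} (hK : Moved (img a A) K) : PointSection S A a := by
  haveI : Fact (Nat.Prime 2) := ⟨Nat.prime_two⟩
  have hS : (S : Subgroup G) ≤ Cq a := hSC.trans (centralizer_le (Set.singleton_subset_iff.2 ha))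
  obtain ⟨T, s⟩ := c.exists_secCtx ha ha1
  set π : ↥(S : Subgroup G) →* Quo a := (pr a).comp (inclusion hS) with hπ
  let T' : Sylow 2 (Quo a) := (S.subtype hS).mapSurjective (f := pr a) (QuotientGroup.mk'_surjective _)
  have hrange : π.range = (T' : Subgroup (Quo a)) := by
    ext q
    constructor
    · rintro ⟨x, rfl⟩
      exact ⟨⟨x, hS x.2⟩, x.2, rfl⟩
    · rintro ⟨x, hx, rfl⟩
      exact ⟨⟨(x : G), hx⟩, rfl⟩
  have hinj : Function.Injective π := by
    refine (injective_iff_map_eq_one π).2 fun x hx => ?_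
    have h1 := (CfsgLib.ZStar.odd_card_oddCore _).of_dvd_nat
      (Subgroup.orderOf_dvd_natCard _ ((QuotientGroup.eq_one_iff (inclusion hS x)).1 hx))
    rw [← Subgroup.orderOf_coe, coe_inclusion, Subgroup.orderOf_coe] at h1
    obtain ⟨k, hk⟩ := IsPGroup.iff_orderOf.1 S.2 x
    exact orderOf_eq_one_iff.1 (Nat.eq_one_of_dvd_coprimes ((Nat.coprime_two_left.2 h1).pow_left k)
      (hk ▸ dvd_rfl) dvd_rfl)
  have himg : (A.subgroupOf (S : Subgroup G)).map π = img a A := by
    ext q
    constructor
    · rintro ⟨x, hx, rfl⟩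
      exact mem_img.2 ⟨x, hS x.2, hx, rfl⟩
    · intro hq
      obtain ⟨x, hx, hxA, rfl⟩ := mem_img.1 hq
      exact ⟨⟨x, c.le hxA⟩, hxA, rfl⟩
  have hBT : img a A ≤ (T' : Subgroup (Quo a)) := himg ▸ hrange ▸ map_le_range _ _
  obtain ⟨P, hP⟩ := exists_sylow_component T hK.1.1
  have hB := closedElem_quot s.core s.closed s.comm s.sq hK.1 (s.not_le_center hK) hP
  haveI := component_simple hK.1
  have htype : GoldType (↥K ⧸ center ↥K) := by
    refine c.smaller _ (component_quot_not_comm hK.1) ?_ _ _ hB.ne hB.comm hB.closed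
    refine lt_of_le_of_lt ?_ (c.cq_lt ha ha1)
    exact (Nat.card_le_card_of_surjective _ (QuotientGroup.mk'_surjective _)).trans
      ((Subgroup.card_le_card_group _).trans (Nat.card_le_card_of_surjective _ (QuotientGroup.mk'_surjective _)))
  refine ⟨Quo a, inferInstance, inferInstance, π, T', K, hinj, hrange, ?_, ?_, htype, fun h => ?_⟩
  · rw [himg]
    exact ⟨s.core, closed_of_sylow s.closed hBT, s.comm, s.sq, s.gold⟩
  · rw [himg]; exact hK
  · exact ((c.mem_Ck ha).1 (c.mem_Ck_self ha K)).2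

/-- **Case III**: `|A| = 8` with a moved component. -/
theorem false_of_eight (c : Ctx S A) (hF : Facts A (Pair A)) (h8 : Nat.card A = 8) {a : G} {V C : Subgroup G}
    (h : Pair A a V C) : False := by
  have hodd : Odd ((centralizer (A : Set G)).relIndex (normalizer (A : Set G))) := by
    rw [eight_relIndex c.set hF h8 h]
    exact ⟨10, rfl⟩
  refine rankThree c.set h8 hodd fun y hy hy1 => ?_
  obtain ⟨n, hn, rfl⟩ := eight_transitive c.set hF h8 h y hy hy1
  obtain ⟨-, -, K, hK, -⟩ := hF.conj h n hn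
  exact pointSection c (le_centralizer_of_odd c.set hodd) hy hy1 hK

end CfsgLib.Invol.Goldschmidt.RankThree

namespace CfsgLib.Invol.Goldschmidt

universe u

/-- Slice III. -/
theorem eightStep : EightStep.{u} := fun _ _ _ _ _ hsm hS hF h8 ⟨_, _, _, h⟩ =>
  RankThree.false_of_eight ⟨hS, hsm, localStep⟩ hF h8 h

end CfsgLib.Invol.Goldschmidt
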