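import Cfsg.Agent.Lib.Invol.Goldschmidt.Sections.LocalEmbedded

/-!
Owner: helper1. S1169, case III: a simple group with a strongly embedded subgroup, non-abelian Sylow
2-subgroup `T` and a strongly closed four group `B`.

* `Four.facts`: `B` is central in `T` and contains the squares, the commutators and the centre; a 3-element
  normalising `T` moves the points of `B#`; central extensions have odd kernel.
* `FourFacts.centralizer_le`: `C(T) ≤ B`.
* `FourFacts.derived`: `B ≤ ⁅T, T⁆`.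
* `FourFacts.not_narrow`: an element outside `B` has a commutator outside the group of its square.
* `FourFacts.inner`: a 2-automorphism trivial on `B` and on `T / B` is inner by an element of `T`.
-/

set_option autoImplicit false
set_option linter.style.haveILetI false
set_option linter.unusedSectionVars false

namespace CfsgLib.Invol.Goldschmidt.RankThree

open Subgroup
open CfsgLib.Signalizer (orderOf_conj orderOf_eq_two_of involution_sq involution_ne_one)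
open scoped commutatorElement

universe u

variable {K : Type u} [Group K] [Finite K]

/-- The hypotheses. -/
structure Four (T : Sylow 2 K) (B : Subgroup K) : Prop where
  simple : IsSimpleGroup K
  nonab : ∀ P : Sylow 2 K, ¬ IsMulCommutative (P : Subgroup K)
  embedded : ∃ H : Subgroup K, Cfsg.IsStronglyEmbedded H
  loc : GoldLocal K
  closed : ClosedElem T B
  four : Nat.card B = 4

/-- What follows. -/
structure FourFacts (T : Sylow 2 K) (B : Subgroup K) : Prop where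
  sq : ∀ x ∈ (T : Subgroup K), x * x ∈ B
  central : ∀ x ∈ (T : Subgroup K), ∀ b ∈ B, x * b = b * x
  center : ∀ x ∈ (T : Subgroup K), (∀ y ∈ (T : Subgroup K), y * x = x * y) → x ∈ B
  comm : ∀ x ∈ (T : Subgroup K), ∀ y ∈ (T : Subgroup K), x * y * x⁻¹ * y⁻¹ ∈ B
  cover : CfsgLib.CentralMeet.OddCover K
  /-- A 3-element normalising `T` and fixing no point of `B#`. -/
  torus : ∃ h ∈ normalizer ((T : Subgroup K) : Set K), (∃ k : ℕ, h ^ 3 ^ k = 1) ∧
    (∀ b ∈ B, h * b * h⁻¹ ∈ B) ∧ (∀ b ∈ B, h * b * h⁻¹ = b → b = 1) ∧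
    ∀ b ∈ B, b ≠ 1 → ∀ b' ∈ B, b' ≠ 1 → b' = b ∨ b' = h * b * h⁻¹ ∨ b' = b * (h * b * h⁻¹)
  /-- An element of odd order centralising `T` is trivial. -/
  odd : ∀ d : K, Odd (orderOf d) → (∀ u ∈ (T : Subgroup K), d * u = u * d) → d = 1

namespace Four

variable {T : Sylow 2 K} {B : Subgroup K} (c : Four T B)
include c

theorem facts : FourFacts T B := by
  classical
  haveI : Fact (Nat.Prime 2) := ⟨Nat.prime_two⟩
  haveI := c.simple
  have hna : ¬ IsMulCommutative K := fun h => c.nonab T ⟨⟨fun x y => Subtype.ext (h.is_comm.comm (x : K) y)⟩⟩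
  have hB2 := c.closed.sq
  have hBT : B ≤ (T : Subgroup K) := c.closed.closed.1
  have hBc : ∀ x ∈ B, ∀ y ∈ B, x * y = y * x := fun x hx y hy =>
    congrArg Subtype.val (c.closed.comm.is_comm.comm ⟨x, hx⟩ ⟨y, hy⟩)
  obtain ⟨H₀, hH₀⟩ := c.embedded
  obtain ⟨M, hM, hTM, hMN, htr, hfree⟩ := exists_regular_sylow hH₀ T
  have hsyl := ((good_of_embedded hna hH₀).syl T).1
  have hmem : ∀ x ∈ (T : Subgroup K), x * x = 1 → x ∈ B := by
    intro x hx hxx
    by_cases h1 : x = 1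
    · exact h1 ▸ one_mem B
    · exact c.loc.involutions T B c.closed x hx (orderOf_eq_two_of h1 hxx)
  have hcentral : ∀ x ∈ (T : Subgroup K), ∀ b ∈ B, x * b = b * x := fun x hx b hb =>
    c.loc.central T B c.closed b hb x hx
  have hord : ∀ b ∈ B, b ≠ 1 → orderOf b = 2 := fun b hb h1 => orderOf_eq_two_of h1 (hB2 b hb)
  -- the centre
  have hcenter : ∀ x ∈ (T : Subgroup K), (∀ y ∈ (T : Subgroup K), y * x = x * y) → x ∈ B := by
    intro x hx hxc
    refine hmem x hx (((hsyl.irr ((T : Subgroup K) ⊓ centralizer ((T : Subgroup K) : Set K)) inf_le_left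
      (fun y hy hyy => ⟨hy, mem_centralizer_iff.2 fun z hz => (hsyl.central y hy z hz hyy).symm⟩)
      fun n hn k hk => ⟨(mem_normalizer_iff.1 hn k).1 hk.1,
        (mem_normalizer_iff.1 (CfsgLib.Components.normalizer_le_normalizer_centralizer' _ hn) k).1 hk.2⟩
      ).resolve_right fun e => c.nonab T ⟨⟨fun a b => Subtype.ext ?_⟩⟩) x ⟨hx, mem_centralizer_iff.2 hxc⟩)
    exact (mem_centralizer_iff.1 (mem_inf.1 (e.symm ▸ b.2 : (b : K) ∈
      (T : Subgroup K) ⊓ centralizer ((T : Subgroup K) : Set K))).2 a a.2)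
  have hcomm : ∀ x ∈ (T : Subgroup K), ∀ y ∈ (T : Subgroup K), x * y * x⁻¹ * y⁻¹ ∈ B := fun x hx y hy =>
    hmem _ (mul_mem (mul_mem (mul_mem hx hy) (inv_mem hx)) (inv_mem hy)) (hsyl.comm_sq x hx y hy)
  have hsqB : ∀ x ∈ (T : Subgroup K), x * x ∈ B := fun x hx => hcenter _ (mul_mem hx hx) fun y hy => by
    have hw := hcomm x hx y hy
    set w := x * y * x⁻¹ * y⁻¹ with hwd
    have e : x * x * y * (x * x)⁻¹ = x * w * x⁻¹ * (x * y * x⁻¹) := by rw [hwd]; group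
    have e2 : x * y * x⁻¹ = w * y := by rw [hwd]; group
    rw [hcentral x hx w hw, mul_inv_cancel_right, e2, ← mul_assoc, hB2 w hw, one_mul,
      mul_inv_eq_iff_eq_mul] at e
    exact e.symm
  -- the element of 3-power order
  obtain ⟨H, -, -, hHN, htrans, hreg⟩ := c.loc.torus T B c.closed
  have hcardB : ∀ b ∈ B, b ≠ 1 → ∀ b' ∈ B, b' ≠ 1 → b' ≠ b → ∀ w ∈ B, w = 1 ∨ w = b ∨ w = b' ∨ w = b * b' := by
    intro b hb hb1 b' hb' hb'1 hne w hw
    by_contra hall
    push Not at hall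
    obtain ⟨h1, h2, h3, h4⟩ := hall
    have hp : b * b' ≠ 1 := fun e => hne (mul_left_cancel (e.trans (hB2 b hb).symm))
    let f : Fin 5 → B := ![1, ⟨b, hb⟩, ⟨b', hb'⟩, ⟨b * b', mul_mem hb hb'⟩, ⟨w, hw⟩]
    have hf : Function.Injective f := by
      intro i j hij
      have hij' := congrArg Subtype.val hij
      fin_cases i <;> fin_cases j <;>
        simp [f, hb1, Ne.symm hb1, hb'1, Ne.symm hb'1, hne, hne.symm, hp, Ne.symm hp, h1, Ne.symm h1, h2,
          Ne.symm h2, h3, Ne.symm h3, h4, Ne.symm h4, left_eq_mul, right_eq_mul] at hij' ⊢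
    have := Nat.card_le_card_of_injective f hf
    rw [Nat.card_fin, c.four] at this
    omega
  obtain ⟨b₀, hb₀, hb₀1⟩ := (bot_or_exists_ne_one B).resolve_left c.closed.ne
  obtain ⟨b₁, hb₁, hb₁1, hb₁0⟩ : ∃ b₁ ∈ B, b₁ ≠ 1 ∧ b₁ ≠ b₀ := by
    by_contra hall
    push Not at hall
    have hle : B ≤ zpowers b₀ := fun w hw => by
      by_cases hw1 : w = 1
      · exact hw1 ▸ one_mem _
      · exact hall w hw hw1 ▸ mem_zpowers b₀
    have := card_le_of_le hle
    rw [c.four, Nat.card_zpowers, hord b₀ hb₀ hb₀1] at this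
    omega
  obtain ⟨g, hgH, hgb⟩ := htrans b₀ hb₀ hb₀1 b₁ hb₁ hb₁1
  have hgB : ∀ b ∈ B, g * b * g⁻¹ ∈ B := fun b hb => (mem_normalizer_iff.1 (hHN hgH) b).1 hb
  set Cb := centralizer (B : Set K)
  have hgC : g ∉ Cb := fun h => hb₁0 (by
    rw [← hgb, ← mem_centralizer_iff.1 h b₀ hb₀, mul_inv_cancel_right])
  have hmemC : ∀ x ∈ H, ∀ b ∈ B, b ≠ 1 → x * b * x⁻¹ = b → x ∈ Cb := fun x hx b hb hb1 hfix =>
    mem_centralizer_iff.2 fun w hw =>
      (mul_inv_eq_iff_eq_mul.1 (hreg x hx b hb hb1 hfix w hw)).symm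
  have hg3 : g ^ 3 ∈ Cb := by
    refine hmemC _ (pow_mem hgH 3) b₀ hb₀ hb₀1 ?_
    have e : g ^ 3 * b₀ * (g ^ 3)⁻¹ = g * (g * (g * b₀ * g⁻¹) * g⁻¹) * g⁻¹ := by
      simp only [pow_succ, pow_zero, one_mul]
      group
    have hg1 : g * b₁ * g⁻¹ ∈ B := hgB _ hb₁
    have e1 : g * b₁ * g⁻¹ = b₀ * b₁ := by
      rcases hcardB b₀ hb₀ hb₀1 b₁ hb₁ hb₁1 hb₁0 _ hg1 with h | h | h | h
      · exact absurd (conj_eq_one_iff.1 h) hb₁1
      · exfalso
        refine hgC (hmemC g hgH (b₀ * b₁) (mul_mem hb₀ hb₁)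
          (fun e => hb₁0 (mul_left_cancel (e.trans (hB2 b₀ hb₀).symm))) ?_)
        rw [show g * (b₀ * b₁) * g⁻¹ = g * b₀ * g⁻¹ * (g * b₁ * g⁻¹) by group, hgb, h, hBc _ hb₁ _ hb₀]
      · exact absurd (hmemC g hgH b₁ hb₁ hb₁1 h) hgC
      · exact h
    rw [e, hgb, e1, show g * (b₀ * b₁) * g⁻¹ = g * b₀ * g⁻¹ * (g * b₁ * g⁻¹) by group, hgb, e1,
      hBc _ hb₁ _ (mul_mem hb₀ hb₁), mul_assoc, hB2 b₁ hb₁, mul_one]
  obtain ⟨k, m, hm, hgkm⟩ := Nat.exists_eq_pow_mul_and_not_dvd (orderOf_pos g).ne' 3 (by norm_num)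
  set h := g ^ m with hhd
  have hhH : h ∈ H := pow_mem hgH m
  have hnB : ∀ b ∈ B, h * b * h⁻¹ ∈ B := fun b hb => (mem_normalizer_iff.1 (hHN hhH) b).1 hb
  have hfixB : ∀ b ∈ B, h * b * h⁻¹ = b → b = 1 := fun b hb hfix => by
    by_contra hb1
    refine hgC ?_
    have h1 : g ^ m ∈ Cb := hmemC h hhH b hb hb1 hfix
    have h2 : g ^ (m % 3) ∈ Cb := by
      have := mul_mem (inv_mem (pow_mem hg3 (m / 3))) h1
      rwa [← pow_mul, show g ^ m = g ^ (3 * (m / 3)) * g ^ (m % 3) by rw [← pow_add, Nat.div_add_mod],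
        inv_mul_cancel_left] at this
    rcases (show m % 3 = 1 ∨ m % 3 = 2 by omega) with hr | hr
    · rwa [hr, pow_one] at h2
    · rw [hr] at h2
      have := mul_mem hg3 (inv_mem h2)
      rwa [pow_succ', mul_assoc, mul_inv_cancel, mul_one] at this
  have hne1 : ∀ b ∈ B, b ≠ 1 → h * b * h⁻¹ ≠ 1 := fun b _ hb1 e => hb1 (conj_eq_one_iff.1 e)
  have hHM : H ≤ M := fun x hx => by
    have h1 := (mem_normalizer_iff.1 (hHN hx) b₀).1 hb₀
    exact ((CfsgLib.Signalizer.stronglyEmbedded_iff_conj M).1 hM).2.2 b₀ (hTM (hBT hb₀))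
      (hord _ hb₀ hb₀1) x (hTM (hBT h1))
  refine ⟨hsqB, hcentral, hcenter, hcomm,
    (c.loc.small T B c.closed c.four).resolve_left (c.nonab T),
    ⟨h, hMN.le (hHM hhH), ⟨k, by rw [hhd, ← pow_mul, mul_comm, ← hgkm, pow_orderOf_eq_one]⟩, hnB, hfixB,
      fun b hb hb1 b' hb' hb'1 => ?_⟩, ?_⟩
  · rcases hcardB b hb hb1 _ (hnB b hb) (hne1 b hb hb1) (fun e => hb1 (hfixB b hb e)) b' hb' with
      e | e | e | e
    · exact absurd e hb'1
    · exact Or.inl e
    · exact Or.inr (Or.inl e)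
    · exact Or.inr (Or.inr e)
  · intro d hd hdP
    have hcop : ∀ {u : K}, u ∈ (T : Subgroup K) → ∀ {n : ℕ}, Odd n → u ^ n = 1 → u = 1 := by
      intro u hu n hn he
      obtain ⟨i, hi⟩ := IsPGroup.iff_orderOf.1 T.2 ⟨u, hu⟩
      rw [Subgroup.orderOf_mk] at hi
      exact orderOf_eq_one_iff.1 (Nat.eq_one_of_dvd_coprimes ((Nat.coprime_two_left.2 hn).pow_left i)
        (hi ▸ dvd_rfl) (orderOf_dvd_of_pow_eq_one he))
    have hdM : d ∈ M := by
      refine ((CfsgLib.Signalizer.stronglyEmbedded_iff_conj M).1 hM).2.2 b₀ (hTM (hBT hb₀))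
        (hord _ hb₀ hb₀1) d ?_
      rw [hdP b₀ (hBT hb₀), mul_inv_cancel_right]
      exact hTM (hBT hb₀)
    have hcore : ∀ d : K, (∀ b : K, b⁻¹ * d * b ∈ M) → d = 1 := by
      intro d hd
      have hd' : d ∈ M.normalCore := fun b => by simpa using hd b⁻¹
      rwa [(IsSimpleGroup.eq_bot_or_eq_top_of_normal _ inferInstance).resolve_right
        fun h => hM.1 (top_le_iff.1 (h ▸ M.normalCore_le)), mem_bot] at hd'
    refine hcore d fun b => ?_
    by_cases hb : b ∈ M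
    · exact mul_mem (mul_mem (inv_mem hb) hdM) hb
    have hdb : d * b ∉ M := fun h' => hb (by simpa using mul_mem (inv_mem hdM) h')
    obtain ⟨u, hu, hub⟩ := htr b (d * b) hb hdb
    have hk : ∀ k : ℕ, (d ^ k * b)⁻¹ * (u ^ k * b) ∈ M := by
      intro k
      induction k with
      | zero => simp
      | succ k ih =>
        have hcomm : Commute (u ^ k) d := (show Commute d u from hdP u hu).symm.pow_left k
        have e : (d ^ (k + 1) * b)⁻¹ * (u ^ (k + 1) * b) =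
            ((d ^ (k + 1) * b)⁻¹ * (u ^ k * (d * b))) * ((d * b)⁻¹ * (u * b)) := by
          rw [pow_succ u]; group
        rw [e]
        refine mul_mem ?_ hub
        rw [show u ^ k * (d * b) = d * (u ^ k * b) by rw [← mul_assoc, hcomm.eq, mul_assoc], pow_succ',
          show (d * d ^ k * b)⁻¹ * (d * (u ^ k * b)) = (d ^ k * b)⁻¹ * (u ^ k * b) by group]
        exact ih
    have h1 := hk (orderOf d)
    rw [pow_orderOf_eq_one, one_mul] at h1
    have h2 : u = 1 := hcop hu hd (hfree b hb _ (pow_mem hu _) h1)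
    rw [h2, one_mul] at hub
    have h3 := inv_mem hub
    rwa [mul_inv_rev, inv_inv, ← mul_assoc] at h3

end Four

namespace FourFacts

variable {T : Sylow 2 K} {B : Subgroup K} (f : FourFacts T B)
include f

/-- A 2-element normalising `T` lies in `T`. -/
theorem mem_of_two {k : K} (hk : k ∈ normalizer ((T : Subgroup K) : Set K)) {n : ℕ} (hn : k ^ 2 ^ n = 1) :
    k ∈ (T : Subgroup K) := by
  haveI : Fact (Nat.Prime 2) := ⟨Nat.prime_two⟩
  obtain ⟨i, -, hi⟩ := (Nat.dvd_prime_pow Nat.prime_two).1 (orderOf_dvd_of_pow_eq_one hn)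
  have hp : IsPGroup 2 (zpowers k) := IsPGroup.of_card (n := i) (by rw [Nat.card_zpowers, hi])
  have h := T.3 (T.2.to_sup_of_normal_left' hp (zpowers_le.2 hk)) le_sup_left
  exact h.le (mem_sup_right (mem_zpowers k))

/-- The centraliser of `T` lies in `B`. -/
theorem centralizer_le (hB : ∀ x ∈ B, x * x = 1) {k : K} (hk : ∀ t ∈ (T : Subgroup K), k * t = t * k) :
    k ∈ B := by
  haveI : Fact (Nat.Prime 2) := ⟨Nat.prime_two⟩
  have hkN : k ∈ normalizer ((T : Subgroup K) : Set K) :=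
    mem_normalizer_fintype fun t ht => by
      rw [hk t ht, mul_inv_cancel_right]; exact ht
  obtain ⟨i, m, hm, hkm⟩ := Nat.exists_eq_two_pow_mul_odd (orderOf_pos k).ne'
  have hd : k ^ 2 ^ i = 1 := f.odd _ (hm.of_dvd_nat (orderOf_dvd_of_pow_eq_one (by
    rw [← pow_mul, ← hkm, pow_orderOf_eq_one]))) fun u hu => ((show Commute k u from hk u hu).pow_left _).eq
  exact f.center k (mem_of_two f hkN hd) fun y hy => (hk y hy).symm

/-- `B` lies in the derived group of `T`. -/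
theorem derived (hnonab : ¬ IsMulCommutative (T : Subgroup K)) :
    B ≤ ⁅(T : Subgroup K), (T : Subgroup K)⁆ := by
  obtain ⟨x, hx, y, hy, hxy⟩ : ∃ x ∈ (T : Subgroup K), ∃ y ∈ (T : Subgroup K), x * y * x⁻¹ * y⁻¹ ≠ 1 := by
    by_contra hall
    push Not at hall
    exact hnonab ⟨⟨fun x y => Subtype.ext (by
      simpa [mul_inv_eq_one, mul_inv_eq_iff_eq_mul] using hall x x.2 y y.2)⟩⟩
  obtain ⟨h, hhN, -, -, -, hlist⟩ := f.torus
  set D := ⁅(T : Subgroup K), (T : Subgroup K)⁆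
  have hc : x * y * x⁻¹ * y⁻¹ ∈ D := commutator_mem_commutator hx hy
  have hcB := f.comm x hx y hy
  have hh : h * (x * y * x⁻¹ * y⁻¹) * h⁻¹ ∈ D := by
    rw [show h * (x * y * x⁻¹ * y⁻¹) * h⁻¹ = ⁅h * x * h⁻¹, h * y * h⁻¹⁆ by
      rw [commutatorElement_def]; group]
    exact commutator_mem_commutator ((mem_normalizer_iff.1 hhN x).1 hx) ((mem_normalizer_iff.1 hhN y).1 hy)
  intro b hb
  by_cases hb1 : b = 1
  · exact hb1 ▸ one_mem D
  rcases hlist _ hcB hxy b hb hb1 with e | e | e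
  · exact e ▸ hc
  · exact e ▸ hh
  · exact e ▸ mul_mem hc hh

/-- A point fixed by a permutation of 3-power order. -/
theorem exists_fixed {α : Type*} [Finite α] (F : α → α) {k : ℕ} (hF : ∀ x, F^[3 ^ k] x = x) {n : ℕ}
    (hα : Nat.card α = 2 ^ n) : ∃ x, F x = x := by
  classical
  haveI := Fintype.ofFinite α
  haveI : Fact (Nat.Prime 3) := ⟨Nat.prime_three⟩
  have hpos : 3 ^ k = (3 ^ k - 1) + 1 := by have := Nat.pow_pos (n := k) (show 0 < 3 by norm_num); omega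
  let σ : Equiv.Perm α := Equiv.ofBijective F (Finite.injective_iff_bijective.1 fun x y e => by
    rw [← hF x, ← hF y, hpos, Function.iterate_succ_apply, Function.iterate_succ_apply, e])
  refine Equiv.Perm.exists_fixed_point_of_prime (p := 3) (n := k) (σ := σ) ?_ ?_
  · rw [← Nat.card_eq_fintype_card, hα]
    intro h
    have := (Nat.prime_dvd_prime_iff_eq Nat.prime_three Nat.prime_two).1 (Nat.prime_three.dvd_of_dvd_pow h)
    omega
  · exact Equiv.ext fun x => (congrFun (Equiv.Perm.coe_pow σ (3 ^ k)) x).trans (hF x)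

theorem conj_iterate {h : K} (n : ℕ) (x : K) : (fun y => h * y * h⁻¹)^[n] x = h ^ n * x * (h ^ n)⁻¹ := by
  induction n with
  | zero => simp
  | succ n ih => rw [Function.iterate_succ_apply', ih, pow_succ']; group

/-- An element outside `B` has a commutator outside the group of its square. -/
theorem not_narrow (hB2 : ∀ x ∈ B, x * x = 1)
    (hinv : ∀ x ∈ (T : Subgroup K), x * x = 1 → x ∈ B) {w : K} (hw : w ∈ (T : Subgroup K)) (hwB : w ∉ B) :
    ∃ t ∈ (T : Subgroup K), w * t * w⁻¹ * t⁻¹ ≠ 1 ∧ w * t * w⁻¹ * t⁻¹ ≠ w * w := by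
  haveI : Fact (Nat.Prime 2) := ⟨Nat.prime_two⟩
  by_contra hall
  push Not at hall
  obtain ⟨h, hhN, ⟨k, hhk⟩, hhB, hfix, hlist⟩ := f.torus
  have hTc : ∀ t ∈ (T : Subgroup K), h * t * h⁻¹ ∈ (T : Subgroup K) := fun t ht =>
    (mem_normalizer_iff.1 hhN t).1 ht
  set e := w * w with he
  have heB : e ∈ B := f.sq w hw
  have he1 : e ≠ 1 := fun h' => hwB (hinv w hw h')
  set w₂ := h * w * h⁻¹ with hw₂
  set w₃ := h * w₂ * h⁻¹ with hw₃
  have hw₂T : w₂ ∈ (T : Subgroup K) := hTc w hw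
  have hw₃T : w₃ ∈ (T : Subgroup K) := hTc _ hw₂T
  set e₂ := h * e * h⁻¹ with he₂
  have hne₂ : e₂ ≠ e := fun h' => he1 (hfix e heB h')
  have hnw : ∀ {v : K}, v ∈ (T : Subgroup K) →
      (∀ t ∈ (T : Subgroup K), v * t * v⁻¹ * t⁻¹ = 1 ∨ v * t * v⁻¹ * t⁻¹ = v * v) →
      ∀ t ∈ (T : Subgroup K), h * v * h⁻¹ * t * (h * v * h⁻¹)⁻¹ * t⁻¹ = 1 ∨
        h * v * h⁻¹ * t * (h * v * h⁻¹)⁻¹ * t⁻¹ = h * v * h⁻¹ * (h * v * h⁻¹) := by
    intro v _ hv t ht
    have ht' : h⁻¹ * t * h ∈ (T : Subgroup K) := (mem_normalizer_iff''.1 hhN t).1 ht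
    have e0 : h * v * h⁻¹ * t * (h * v * h⁻¹)⁻¹ * t⁻¹ =
        h * (v * (h⁻¹ * t * h) * v⁻¹ * (h⁻¹ * t * h)⁻¹) * h⁻¹ := by group
    rw [e0]
    rcases hv _ ht' with e1 | e1
    · left; rw [e1, mul_one, mul_inv_cancel]
    · right; rw [e1]; group
  have hall' : ∀ t ∈ (T : Subgroup K), w * t * w⁻¹ * t⁻¹ = 1 ∨ w * t * w⁻¹ * t⁻¹ = w * w := fun t ht =>
    or_iff_not_imp_left.2 (hall t ht)
  have hall₂ := hnw hw hall'
  have hall₃ := hnw hw₂T hall₂
  have hsq₂ : w₂ * w₂ = e₂ := by rw [hw₂, he₂, he]; group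
  have he3' : h * e₂ * h⁻¹ = e * e₂ := by
    rcases hlist e heB he1 (h * e₂ * h⁻¹) (hhB _ (hhB _ heB))
      (fun e' => he1 (conj_eq_one_iff.1 (conj_eq_one_iff.1 e'))) with e' | e' | e'
    · exfalso
      refine hne₂ ?_
      have h3 : e * e₂ = 1 := hfix _ (mul_mem heB (hhB _ heB)) (by
        rw [show h * (e * e₂) * h⁻¹ = e₂ * (h * e₂ * h⁻¹) by rw [he₂]; group, e',
          f.central e₂ ((hTc _ (mul_mem hw hw))) e heB])
      rw [mul_eq_one_iff_eq_inv.1 h3, inv_eq_of_mul_eq_one_right (hB2 _ (hhB _ heB))]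
    · exact absurd (mul_left_cancel (mul_right_cancel e')) hne₂
    · exact e'
  have hcent : ∀ b ∈ B, ∀ t ∈ (T : Subgroup K), t * b = b * t := fun b hb t ht => f.central t ht b hb
  -- two of the three elements commute
  have hne₃ : e * e₂ ≠ e ∧ e * e₂ ≠ e₂ := ⟨fun e' => he1 (conj_eq_one_iff.1 (mul_eq_left.1 e')),
    fun e' => he1 (mul_eq_right.1 e')⟩
  have hsq₃ : w₃ * w₃ = e * e₂ := by rw [← he3', he₂, he, hw₃, hw₂]; group
  have hpair : ∀ {v v' : K}, v * v ∈ B → v ∈ (T : Subgroup K) → v' ∈ (T : Subgroup K) →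
      (∀ t ∈ (T : Subgroup K), v * t * v⁻¹ * t⁻¹ = 1 ∨ v * t * v⁻¹ * t⁻¹ = v * v) →
      (∀ t ∈ (T : Subgroup K), v' * t * v'⁻¹ * t⁻¹ = 1 ∨ v' * t * v'⁻¹ * t⁻¹ = v' * v') →
      v * v ≠ v' * v' → v * v' = v' * v := by
    intro v v' hvB hv hv' hnv hnv' hne
    rcases hnv v' hv' with e1 | e1
    · exact mul_inv_eq_iff_eq_mul.1 (mul_inv_eq_one.1 e1)
    rcases hnv' v hv with e2 | e2
    · exact (mul_inv_eq_iff_eq_mul.1 (mul_inv_eq_one.1 e2)).symm
    refine absurd ?_ hne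
    rw [← inv_eq_of_mul_eq_one_right (hB2 _ hvB), ← e1, ← e2]
    group
  have hcomm12 : w * w₂ = w₂ * w := hpair heB hw hw₂T hall' hall₂ (by rw [hsq₂]; exact hne₂.symm)
  have hcomm13 : w * w₃ = w₃ * w := hpair heB hw hw₃T hall' hall₃ (by rw [hsq₃]; exact hne₃.1.symm)
  have hcomm23 : w₂ * w₃ = w₃ * w₂ :=
    hpair (hsq₂ ▸ hhB _ heB) hw₂T hw₃T hall₂ hall₃ (by rw [hsq₂, hsq₃]; exact hne₃.2.symm)
  set r := w * w₂ * w₃ with hr
  have hrT : r ∈ (T : Subgroup K) := mul_mem (mul_mem hw hw₂T) hw₃T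
  have hr2 : r * r = 1 := by
    calc r * r = w * (w₂ * w₃) * w * (w₂ * w₃) := by rw [hr]; group
      _ = w * (w * (w₂ * w₃)) * (w₂ * w₃) := by
        rw [mul_assoc w (w₂ * w₃) w, show w₂ * w₃ * w = w * (w₂ * w₃) by
          rw [mul_assoc, ← hcomm13, ← mul_assoc, ← hcomm12, mul_assoc]]
      _ = (w * w) * (w₂ * (w₃ * w₂) * w₃) := by group
      _ = (w * w) * ((w₂ * w₂) * (w₃ * w₃)) := by rw [← hcomm23]; group
      _ = 1 := by
        rw [← he, hsq₂, hsq₃, ← mul_assoc, hB2 _ (mul_mem heB (hhB _ heB))]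
  have hrB : r ∈ B := hinv r hrT hr2
  -- the three characters agree
  have hagree : ∀ t ∈ (T : Subgroup K), w * t * w⁻¹ * t⁻¹ = e → w₂ * t * w₂⁻¹ * t⁻¹ = e₂ := by
    intro t ht ht1
    rcases hall₂ t ht with e2 | e2
    swap
    · exact e2.trans hsq₂
    exfalso
    have h0 : r * t * r⁻¹ * t⁻¹ = 1 := by rw [← hcent r hrB t ht, mul_inv_cancel_right, mul_inv_cancel]
    have e3 : w₂ * t * w₂⁻¹ = t := mul_inv_eq_one.1 e2
    have e4 : w * t * w⁻¹ = e * t := mul_inv_eq_iff_eq_mul.1 ht1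
    have e5 : r * t * r⁻¹ = w * (w₂ * (w₃ * t * w₃⁻¹) * w₂⁻¹) * w⁻¹ := by rw [hr]; group
    rcases hall₃ t ht with e6 | e6
    · rw [e5, mul_inv_eq_one.1 e6, e3, e4, mul_inv_cancel_right] at h0
      exact he1 h0
    · rw [hsq₃] at e6
      have e7 : w₃ * t * w₃⁻¹ = e * e₂ * t := mul_inv_eq_iff_eq_mul.1 e6
      have hee : e * e₂ ∈ B := mul_mem heB (hhB _ heB)
      rw [e5, e7, show w₂ * (e * e₂ * t) * w₂⁻¹ = w₂ * (e * e₂) * w₂⁻¹ * (w₂ * t * w₂⁻¹) by group, e3,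
        hcent _ hee w₂ hw₂T, mul_inv_cancel_right,
        show w * (e * e₂ * t) * w⁻¹ = w * (e * e₂) * w⁻¹ * (w * t * w⁻¹) by group, e4,
        hcent _ hee w hw, mul_inv_cancel_right, ← mul_assoc (e * e₂), mul_inv_cancel_right,
        hcent _ (hhB _ heB) e (mul_mem hw hw), mul_assoc, hB2 e heB, mul_one] at h0
      exact he1 (conj_eq_one_iff.1 h0)
  -- the nontrivial coset
  obtain ⟨t₀, ht₀, ht₀e⟩ : ∃ t ∈ (T : Subgroup K), w * t * w⁻¹ * t⁻¹ = e := by
    by_contra hno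
    push Not at hno
    refine hwB (f.center w hw fun y hy => ?_)
    have := (hall' y hy).resolve_right (hno y hy)
    exact (mul_inv_eq_iff_eq_mul.1 (mul_inv_eq_one.1 this)).symm
  let Ker : Subgroup K := (T : Subgroup K) ⊓ centralizer ({w} : Set K)
  let E : Type u := {t : K // t ∈ (T : Subgroup K) ∧ w * t * w⁻¹ * t⁻¹ = e}
  have hEcard : Nat.card E = Nat.card Ker := by
    refine Nat.card_eq_of_bijective (fun t => ⟨t₀⁻¹ * t.1, mem_inf.2 ⟨mul_mem (inv_mem ht₀) t.2.1,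
      mem_centralizer_singleton_iff.2 ?_⟩⟩) ⟨fun a b h' => Subtype.ext ?_, fun k => ?_⟩
    · have e8 : w * (t₀⁻¹ * t.1) * w⁻¹ = t₀⁻¹ * t.1 := by
        rw [show w * (t₀⁻¹ * t.1) * w⁻¹ = (w * t₀ * w⁻¹)⁻¹ * (w * t.1 * w⁻¹) by group,
          mul_inv_eq_iff_eq_mul.1 ht₀e, mul_inv_eq_iff_eq_mul.1 t.2.2]
        group
      exact (mul_inv_eq_iff_eq_mul.1 e8).symm
    · exact mul_left_cancel (congrArg Subtype.val h' :)
    · refine ⟨⟨t₀ * k, mul_mem ht₀ (mem_inf.1 k.2).1, ?_⟩, Subtype.ext (inv_mul_cancel_left _ _)⟩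
      have hk : (k : K) * w = w * k := mem_centralizer_singleton_iff.1 (mem_inf.1 k.2).2
      rw [show w * (t₀ * (k : K)) * w⁻¹ = (w * t₀ * w⁻¹) * (w * k * w⁻¹) by group, ← hk,
        mul_inv_cancel_right, mul_inv_rev, ← mul_assoc, mul_inv_cancel_right]
      exact ht₀e
  have hmap : ∀ t : E, h * t.1 * h⁻¹ ∈ (T : Subgroup K) ∧
      w * (h * t.1 * h⁻¹) * w⁻¹ * (h * t.1 * h⁻¹)⁻¹ = e := by
    intro t
    refine ⟨hTc _ t.2.1, ?_⟩
    have h2 : w₂ * (h * t.1 * h⁻¹) * w₂⁻¹ * (h * t.1 * h⁻¹)⁻¹ = e₂ := by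
      rw [show w₂ * (h * t.1 * h⁻¹) * w₂⁻¹ * (h * t.1 * h⁻¹)⁻¹ = h * (w * t.1 * w⁻¹ * t.1⁻¹) * h⁻¹ by
        rw [hw₂]; group, t.2.2]
    rcases hall' _ (hTc _ t.2.1) with e9 | e9
    swap
    · exact e9
    exfalso
    -- then the sum of the three characters at this element is not trivial
    set s := h * t.1 * h⁻¹
    have hs : s ∈ (T : Subgroup K) := hTc _ t.2.1
    have h0 : r * s * r⁻¹ * s⁻¹ = 1 := by rw [← hcent r hrB s hs, mul_inv_cancel_right, mul_inv_cancel]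
    have hee : e * e₂ ∈ B := mul_mem heB (hhB _ heB)
    have e5 : r * s * r⁻¹ = w * (w₂ * (w₃ * s * w₃⁻¹) * w₂⁻¹) * w⁻¹ := by rw [hr]; group
    have e10 : w₂ * s * w₂⁻¹ = e₂ * s := mul_inv_eq_iff_eq_mul.1 h2
    have e11 : w * s * w⁻¹ = s := mul_inv_eq_one.1 e9
    rcases hall₃ s hs with e6 | e6
    · rw [e5, mul_inv_eq_one.1 e6, e10,
        show w * (e₂ * s) * w⁻¹ = w * e₂ * w⁻¹ * (w * s * w⁻¹) by group, e11,
        hcent _ (hhB _ heB) w hw, mul_inv_cancel_right, mul_inv_cancel_right] at h0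
      exact he1 (conj_eq_one_iff.1 h0)
    · rw [hsq₃] at e6
      rw [e5, mul_inv_eq_iff_eq_mul.1 e6,
        show w₂ * (e * e₂ * s) * w₂⁻¹ = w₂ * (e * e₂) * w₂⁻¹ * (w₂ * s * w₂⁻¹) by group, e10,
        hcent _ hee w₂ hw₂T, mul_inv_cancel_right,
        show e * e₂ * (e₂ * s) = e * s by rw [← mul_assoc, mul_assoc e, hB2 _ (hhB _ heB), mul_one],
        show w * (e * s) * w⁻¹ = w * e * w⁻¹ * (w * s * w⁻¹) by group, e11,
        hcent _ heB w hw, mul_inv_cancel_right, mul_inv_cancel_right] at h0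
      exact he1 h0
  obtain ⟨n, hn⟩ := (T.2.to_le (inf_le_left : Ker ≤ _)).exists_card_eq
  have hiter : ∀ (m : ℕ) (t : E),
      (((fun t : E => (⟨_, hmap t⟩ : E))^[m] t).1) = (fun y => h * y * h⁻¹)^[m] t.1 := by
    intro m
    induction m with
    | zero => exact fun t => rfl
    | succ m ih => exact fun t => by rw [Function.iterate_succ_apply, ih, Function.iterate_succ_apply]
  obtain ⟨t, ht⟩ := exists_fixed f (fun t : E => (⟨_, hmap t⟩ : E)) (k := k) (fun t => Subtype.ext (by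
    rw [hiter, conj_iterate f, hhk, inv_one, one_mul, mul_one])) (hEcard.trans hn)
  have hfixed : h * t.1 * h⁻¹ = t.1 := congrArg Subtype.val ht
  have h2 : t.1 * t.1 = 1 := hfix _ (f.sq _ t.2.1) (by
    calc h * (t.1 * t.1) * h⁻¹ = (h * t.1 * h⁻¹) * (h * t.1 * h⁻¹) := by group
      _ = t.1 * t.1 := by rw [hfixed])
  have h4 := t.2.2
  rw [hcent _ (hinv _ t.2.1 h2) w hw, mul_inv_cancel_right, mul_inv_cancel] at h4
  exact he1 h4.symm

/-- **A 2-automorphism trivial on `B` and on `T / B` is inner by an element of `T`.** -/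
theorem inner (hloc : GoldLocal K) (hB : ClosedElem T B) [IsSimpleGroup K] (hna : ¬ IsMulCommutative K)
    (β : MulAut K) {n : ℕ} (hβ : β ^ 2 ^ n = 1) (hβB : ∀ b ∈ B, β b = b)
    (hβT : ∀ x ∈ (T : Subgroup K), β x * x⁻¹ ∈ B) : ∃ t ∈ (T : Subgroup K), β = MulAut.conj t := by
  classical
  haveI : Fact (Nat.Prime 2) := ⟨Nat.prime_two⟩
  obtain ⟨h, hhN, ⟨k, hhk⟩, hhB, hfix, hlist⟩ := f.torus
  have hB2 := hB.sq
  have hBT : B ≤ (T : Subgroup K) := hB.closed.1
  have hinj : Function.Injective (MulAut.conj : K →* MulAut K) := fun a b e => by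
    have h' : a⁻¹ * b ∈ Subgroup.center K := mem_center_iff.2 fun g => by
      have := congrArg (fun f : MulAut K => f g) e
      simp only [MulAut.conj_apply] at this
      calc g * (a⁻¹ * b) = a⁻¹ * (a * g * a⁻¹) * b := by group
        _ = a⁻¹ * (b * g * b⁻¹) * b := by rw [this]
        _ = a⁻¹ * b * g := by group
    rcases (inferInstance : (Subgroup.center K).Normal).eq_bot_or_eq_top with hb | ht
    · exact inv_mul_eq_one.1 (mem_bot.1 (hb ▸ h'))
    · exact absurd ⟨⟨fun x y => (mem_center_iff.1 (ht ▸ mem_top y) x)⟩⟩ hna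
  have hconj : ∀ (γ : MulAut K) (x : K), γ * MulAut.conj x * γ⁻¹ = MulAut.conj (γ x) := fun γ x => by
    ext g
    simp
  have hTh : ∀ t ∈ (T : Subgroup K), h⁻¹ * t * h ∈ (T : Subgroup K) := fun t ht =>
    (mem_normalizer_iff''.1 hhN t).1 ht
  have hmemB : ∀ {x : K}, x ∈ (T : Subgroup K) → x * x = 1 → x ∈ B := fun {x} hx hxx => by
    by_cases h1 : x = 1
    · exact h1 ▸ one_mem B
    · exact hloc.involutions T B hB x hx (orderOf_eq_two_of h1 hxx)
  have htwist : ∀ γ : MulAut K, MulAut.conj h * γ * (MulAut.conj h)⁻¹ = MulAut.conj (h * (γ h)⁻¹) * γ :=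
    fun γ => by ext g; simp [mul_assoc]
  -- first the automorphisms fixing every point of `T`
  have stepA : ∀ m (γ : MulAut K), γ ^ 2 ^ m = 1 → (∀ x ∈ (T : Subgroup K), γ x = x) →
      ∃ b ∈ B, γ = MulAut.conj b := by
    intro m
    induction m with
    | zero =>
      intro γ hγ _
      exact ⟨1, one_mem B, by rw [pow_zero, pow_one] at hγ; rw [hγ, map_one]⟩
    | succ m ih =>
      intro γ hγ hfixT
      obtain ⟨v, hv, hγ2⟩ := ih (γ * γ) (by rwa [← pow_two, ← pow_mul, ← pow_succ'])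
        fun x hx => by rw [MulAut.mul_apply, hfixT x hx, hfixT x hx]
      set c := h * (γ h)⁻¹ with hcdef
      have hcB : c ∈ B := by
        refine centralizer_le f hB2 fun t ht => ?_
        have e1 : γ (h⁻¹ * t * h) = h⁻¹ * t * h := hfixT _ (hTh t ht)
        rw [map_mul, map_mul, map_inv, hfixT t ht] at e1
        calc c * t = c * (γ h * ((γ h)⁻¹ * t * γ h) * (γ h)⁻¹) := by group
          _ = t * c := by rw [e1, hcdef]; group
      have e2 : MulAut.conj h * (γ * γ) * (MulAut.conj h)⁻¹ = γ * γ := by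
        calc MulAut.conj h * (γ * γ) * (MulAut.conj h)⁻¹
            = (MulAut.conj h * γ * (MulAut.conj h)⁻¹) * (MulAut.conj h * γ * (MulAut.conj h)⁻¹) := by group
          _ = MulAut.conj c * (γ * MulAut.conj c * γ⁻¹) * (γ * γ) := by rw [htwist, ← hcdef]; group
          _ = γ * γ := by rw [hconj, hfixT c (hBT hcB), ← map_mul, hB2 c hcB, map_one, one_mul]
      have hv1 : v = 1 := hfix v hv (hinj (by
        rw [hγ2, hconj, MulAut.conj_apply] at e2
        exact e2))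
      refine hloc.inner T B hB γ (by rw [hγ2, hv1, map_one]) (fun x hx => hfixT x (hBT hx)) fun x hx => ?_
      rw [hfixT x hx, mul_inv_cancel]
      exact one_mem B
  have hTβ : ∀ x ∈ (T : Subgroup K), β x ∈ (T : Subgroup K) := fun x hx => by
    have := mul_mem (hBT (hβT x hx)) hx
    rwa [inv_mul_cancel_right] at this
  -- the square
  have hsqfix : ∀ γ : MulAut K, (∀ b ∈ B, γ b = b) → (∀ x ∈ (T : Subgroup K), γ x * x⁻¹ ∈ B) →
      ∀ x ∈ (T : Subgroup K), γ (γ x) = x := fun γ hγB hγT x hx => by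
    have hb := hγT x hx
    obtain ⟨b, hbB, e⟩ : ∃ b ∈ B, γ x = b * x := ⟨_, hb, by group⟩
    rw [e, map_mul, hγB b hbB, e, ← mul_assoc, hB2 b hbB, one_mul]
  obtain ⟨v, hv, hβ2⟩ := stepA n (β * β) (by
    rw [← pow_two, ← pow_mul, mul_comm, pow_mul, hβ, one_pow])
    fun x hx => by rw [MulAut.mul_apply]; exact hsqfix β hβB hβT x hx
  -- the twist by `h` is inner by an element of `T`
  set c := h * (β h)⁻¹ with hcdef
  have hmove : ∀ t ∈ (T : Subgroup K), c * t * c⁻¹ * t⁻¹ ∈ B := by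
    intro t ht
    have hu := hTh t ht
    obtain ⟨b₁, hb₁, e1⟩ : ∃ b ∈ B, β (h⁻¹ * t * h) = b * (h⁻¹ * t * h) := ⟨_, hβT _ hu, by group⟩
    obtain ⟨b₂, hb₂, e2⟩ : ∃ b ∈ B, β t = b * t := ⟨_, hβT t ht, by group⟩
    rw [map_mul, map_mul, map_inv, e2] at e1
    have hb₁' : h * b₁ * h⁻¹ ∈ B := hhB _ hb₁
    have e3 : c * (b₂ * t) * c⁻¹ = h * b₁ * h⁻¹ * t := by
      rw [hcdef]
      calc h * (β h)⁻¹ * (b₂ * t) * (h * (β h)⁻¹)⁻¹ = h * ((β h)⁻¹ * (b₂ * t) * β h) * h⁻¹ := by group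
        _ = h * b₁ * h⁻¹ * t := by rw [e1]; group
    have hcb : c * b₂ * c⁻¹ ∈ B := by
      have hu' : h⁻¹ * b₂ * h ∈ B := by
        refine hmemB ?_ ?_
        · exact hTh _ (hBT hb₂)
        · rw [show h⁻¹ * b₂ * h * (h⁻¹ * b₂ * h) = h⁻¹ * (b₂ * b₂) * h by group, hB2 _ hb₂]; group
      have e4 := hβB _ hu'
      rw [map_mul, map_mul, map_inv, hβB _ hb₂] at e4
      have e5 : c * b₂ * c⁻¹ = b₂ := by
        calc c * b₂ * c⁻¹ = h * ((β h)⁻¹ * b₂ * β h) * h⁻¹ := by rw [hcdef]; group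
          _ = b₂ := by rw [e4]; group
      exact e5.symm ▸ hb₂
    have e6 : c * t * c⁻¹ * t⁻¹ = (c * b₂ * c⁻¹)⁻¹ * (h * b₁ * h⁻¹) := by
      rw [show c * t * c⁻¹ = (c * b₂ * c⁻¹)⁻¹ * (c * (b₂ * t) * c⁻¹) by group, e3]; group
    rw [e6]
    exact mul_mem (inv_mem hcb) hb₁'
  have hcN : c ∈ normalizer ((T : Subgroup K) : Set K) := mem_normalizer_fintype fun t ht => by
    have := mul_mem (hBT (hmove t ht)) ht
    rwa [inv_mul_cancel_right] at this
  have hcfix : ∀ b ∈ B, c * b * c⁻¹ = b := by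
    intro b hb
    have hu' : h⁻¹ * b * h ∈ B := by
      refine hmemB ?_ ?_
      · exact hTh _ (hBT hb)
      · rw [show h⁻¹ * b * h * (h⁻¹ * b * h) = h⁻¹ * (b * b) * h by group, hB2 _ hb]; group
    have e4 := hβB _ hu'
    rw [map_mul, map_mul, map_inv, hβB _ hb] at e4
    calc c * b * c⁻¹ = h * ((β h)⁻¹ * b * β h) * h⁻¹ := by rw [hcdef]; group
      _ = b := by rw [e4]; group
  have hcT : c ∈ (T : Subgroup K) := by
    refine mem_of_two f hcN (n := 2) ?_
    have h2 : c * c ∈ B := centralizer_le f hB2 fun t ht => by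
      obtain ⟨b, hb, e⟩ : ∃ b ∈ B, c * t * c⁻¹ = b * t := ⟨_, hmove t ht, by group⟩
      have : c * c * t * (c * c)⁻¹ = t := by
        calc c * c * t * (c * c)⁻¹ = c * (c * t * c⁻¹) * c⁻¹ := by group
          _ = c * (b * t) * c⁻¹ := by rw [e]
          _ = c * b * c⁻¹ * (c * t * c⁻¹) := by group
          _ = t := by rw [hcfix b hb, e, ← mul_assoc, hB2 b hb, one_mul]
      exact mul_inv_eq_iff_eq_mul.1 this
    rw [show (2 : ℕ) ^ 2 = 2 * 2 from rfl, pow_mul, pow_two, pow_two, hB2 _ h2]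
  -- a point fixed by the twist
  let F : ↥(T : Subgroup K) → ↥(T : Subgroup K) := fun t =>
    ⟨h * t * h⁻¹ * c, mul_mem ((mem_normalizer_iff.1 hhN _).1 t.2) hcT⟩
  have hF : ∀ (m : ℕ) (t : ↥(T : Subgroup K)),
      MulAut.conj (((F^[m] t : ↥(T : Subgroup K))) : K) * β =
        MulAut.conj (h ^ m) * (MulAut.conj (t : K) * β) * (MulAut.conj (h ^ m))⁻¹ := by
    intro m
    induction m with
    | zero => exact fun t => by simp
    | succ m ih =>
      intro t
      rw [Function.iterate_succ_apply', pow_succ']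
      show MulAut.conj (h * ((F^[m] t : ↥(T : Subgroup K)) : K) * h⁻¹ * c) * β = _
      rw [map_mul, mul_assoc, hcdef, ← htwist]
      simp only [map_mul, map_inv]
      calc MulAut.conj h * MulAut.conj ((F^[m] t : ↥(T : Subgroup K)) : K) * (MulAut.conj h)⁻¹ *
            (MulAut.conj h * β * (MulAut.conj h)⁻¹)
          = MulAut.conj h * (MulAut.conj ((F^[m] t : ↥(T : Subgroup K)) : K) * β) * (MulAut.conj h)⁻¹ := by group
        _ = _ := by rw [ih]; group
  obtain ⟨j, hj⟩ := T.2.exists_card_eq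
  obtain ⟨t, ht⟩ := exists_fixed f F (k := k) (fun t => Subtype.ext (hinj (mul_right_cancel
    (b := β) (by rw [hF, hhk, map_one, inv_one, one_mul, mul_one])))) hj
  have hβ' : MulAut.conj h * (MulAut.conj (t : K) * β) * (MulAut.conj h)⁻¹ = MulAut.conj (t : K) * β := by
    have := hF 1 t
    rw [Function.iterate_one, ht, pow_one] at this
    exact this.symm
  set γ := MulAut.conj (t : K) * β with hγ
  have hγB : ∀ b ∈ B, γ b = b := fun b hb => by
    show (t : K) * β b * (t : K)⁻¹ = b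
    rw [hβB b hb, f.central _ t.2 b hb, mul_inv_cancel_right]
  have hγT : ∀ x ∈ (T : Subgroup K), γ x * x⁻¹ ∈ B := fun x hx => by
    show (t : K) * β x * (t : K)⁻¹ * x⁻¹ ∈ B
    have := mul_mem (f.comm _ t.2 _ (hTβ x hx)) (hβT x hx)
    rwa [← mul_assoc, inv_mul_cancel_right] at this
  set w := (t : K) * β t * v with hw
  have hwT : w ∈ (T : Subgroup K) := mul_mem (mul_mem t.2 (hTβ _ t.2)) (hBT hv)
  have hγ2 : γ * γ = MulAut.conj w := by
    calc γ * γ = MulAut.conj (t : K) * (β * MulAut.conj (t : K) * β⁻¹) * (β * β) := by rw [hγ]; group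
      _ = MulAut.conj w := by rw [hconj, hβ2, hw, map_mul, map_mul]
  have hwB : w ∈ B := f.center w hwT fun y hy => by
    have := hsqfix γ hγB hγT y hy
    rw [← MulAut.mul_apply, hγ2, MulAut.conj_apply] at this
    exact (mul_inv_eq_iff_eq_mul.1 this).symm
  have hw1 : w = 1 := hfix w hwB (hinj (by
    rw [← MulAut.conj_apply h w, ← hconj (MulAut.conj h) w, ← hγ2]
    calc MulAut.conj h * (γ * γ) * (MulAut.conj h)⁻¹
        = (MulAut.conj h * γ * (MulAut.conj h)⁻¹) * (MulAut.conj h * γ * (MulAut.conj h)⁻¹) := by group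
      _ = γ * γ := by rw [hβ']))
  obtain ⟨b, hb, hγb⟩ := hloc.inner T B hB γ (by rw [hγ2, hw1, map_one]) hγB hγT
  refine ⟨(t : K)⁻¹ * b, mul_mem (inv_mem t.2) (hBT hb), ?_⟩
  rw [map_mul, map_inv, ← hγb, hγ]
  group

end FourFacts

end CfsgLib.Invol.Goldschmidt.RankThree
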