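import Cfsg.Agent.Lib.Invol.Goldschmidt.RankThree.Fours
import Cfsg.Agent.Lib.Invol.Goldschmidt.Dichotomy

/-!
Owner: helper1. S1169, case III: two points whose components have non-abelian Sylow 2-subgroups.

* `PointData`: the Sylow subgroup `R` of the component at `a` inside `S`, and the action of `S` on the component.
* `exists_ordered_pair`: two points `a`, `b` with `a ∉ A ⊓ R_b` and `A ⊓ R_a ≠ A ⊓ R_b` (parity).
* `false_of_points`: `⁅R_b, R_b⁆` contains `A ⊓ R_b`, which embeds into the action on the component at `a`, but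
  acts through the at most two elements of `R_a ⊓ R_b`.
-/

set_option autoImplicit false
set_option linter.style.haveILetI false
set_option linter.unusedSectionVars false

namespace CfsgLib.Invol.Goldschmidt.RankThree

open Subgroup
open scoped commutatorElement

universe u

variable {G : Type u} [Group G] [Finite G] {S : Sylow 2 G} {A : Subgroup G}

/-- The component at `a`, seen from `S`. -/
structure PointData (S : Sylow 2 G) (A : Subgroup G) (a : G) (R : Subgroup G) (K : Type u) [Group K]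
    (T : Sylow 2 K) (B : Subgroup K) (f : ↥(S : Subgroup G) →* MulAut K) (e : ↥R →* K) : Prop where
  four : Four T B
  le : R ≤ (S : Subgroup G)
  normal : ∀ s ∈ (S : Subgroup G), ∀ r ∈ R, s * r * s⁻¹ ∈ R
  inj : Function.Injective e
  mem : ∀ r, e r ∈ (T : Subgroup K)
  surj : ∀ t ∈ (T : Subgroup K), ∃ r, e r = t
  comp : ∀ r : ↥R, f ⟨(r : G), le r.2⟩ = MulAut.conj (e r)
  inter : ∀ r : ↥R, (r : G) ∈ A ↔ e r ∈ B
  kill : ∀ h : a ∈ (S : Subgroup G), f ⟨a, h⟩ = 1

/-- Some data at `a`. -/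
def HasFour (S : Sylow 2 G) (A : Subgroup G) (a : G) : Prop :=
  ∃ (K : Type u) (_ : Group K) (_ : Finite K) (R : Subgroup G) (T : Sylow 2 K) (B : Subgroup K)
    (f : ↥(S : Subgroup G) →* MulAut K) (e : ↥R →* K), PointData S A a R K T B f e

section

variable {a : G} {R : Subgroup G} {K : Type u} [Group K] [Finite K] {T : Sylow 2 K} {B : Subgroup K}
  {f : ↥(S : Subgroup G) →* MulAut K} {e : ↥R →* K}

theorem conj_injective (d : PointData S A a R K T B f e) :
    Function.Injective (MulAut.conj : K →* MulAut K) := by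
  haveI := d.four.simple
  intro x y h
  have h' : x⁻¹ * y ∈ center K := mem_center_iff.2 fun g => by
    have := congrArg (fun φ : MulAut K => φ g) h
    simp only [MulAut.conj_apply] at this
    calc g * (x⁻¹ * y) = x⁻¹ * (x * g * x⁻¹) * y := by group
      _ = x⁻¹ * (y * g * y⁻¹) * y := by rw [this]
      _ = x⁻¹ * y * g := by group
  rcases (inferInstance : (center K).Normal).eq_bot_or_eq_top with hb | ht
  · exact inv_mul_eq_one.1 (mem_bot.1 (hb ▸ h'))
  · exact absurd ⟨⟨fun p q => Subtype.ext (mem_center_iff.1 (ht.symm ▸ mem_top _ : (q : K) ∈ center K) p)⟩⟩ (d.four.nonab T)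

/-- The part of `A` in `R`. -/
theorem card_inf (d : PointData S A a R K T B f e) : Nat.card ↥(A ⊓ R) = 4 := by
  rw [← d.four.four]
  refine Nat.card_eq_of_bijective
    (fun x : ↥(A ⊓ R) => (⟨e ⟨x, x.2.2⟩, (d.inter _).1 x.2.1⟩ : ↥B)) ⟨fun x y h => ?_, fun b => ?_⟩
  · exact Subtype.ext (congrArg Subtype.val (d.inj (congrArg Subtype.val h)) :)
  · obtain ⟨r, hr⟩ := d.surj b (d.four.closed.closed.1 b.2)
    exact ⟨⟨r, (d.inter r).2 (hr ▸ b.2), r.2⟩, Subtype.ext hr⟩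

theorem not_mem_self (d : PointData S A a R K T B f e) (ha1 : a ≠ 1) : a ∉ R := fun ha => by
  have h := d.comp ⟨a, ha⟩
  rw [d.kill (d.le ha), ← map_one (MulAut.conj : K →* MulAut K)] at h
  have h1 := conj_injective d h
  rw [← map_one e] at h1
  exact ha1 (congrArg Subtype.val (d.inj h1).symm)

end

/-- Some ordered pair of points is in general position. -/
theorem exists_ordered_pair (hS : Setting S A) (h8 : Nat.card A = 8) (V : G → Subgroup G)
    (hV : ∀ a ∈ A, a ≠ 1 → V a ≤ A ∧ Nat.card (V a) = 4 ∧ a ∉ V a) :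
    ∃ a ∈ A, a ≠ 1 ∧ ∃ b ∈ A, b ≠ 1 ∧ a ∉ V b ∧ V a ≠ V b := by
  classical
  haveI := Fintype.ofFinite G
  by_contra hall
  push Not at hall
  set E : Finset G := Finset.univ.filter fun x => x ∈ A ∧ x ≠ 1 with hE
  have hmemE : ∀ {x : G}, x ∈ E ↔ x ∈ A ∧ x ≠ 1 := by simp [hE]
  have hcardE : E.card = 7 := by
    have h1 := CfsgLib.DisjointKernels.card_nonidentity A
    rw [h8, Nat.card_eq_fintype_card, Fintype.card_subtype] at h1
    exact h1
  set P := E.offDiag with hP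
  have h1 : (P.filter fun p => p.1 ∈ V p.2).card = 21 := by
    have hfib : ∀ b ∈ E, (E.filter fun x => x ∈ V b).card = 3 := by
      intro b hb
      obtain ⟨hle, hc, -⟩ := hV b (hmemE.1 hb).1 (hmemE.1 hb).2
      have h2 := CfsgLib.DisjointKernels.card_nonidentity (V b)
      rw [hc, Nat.card_eq_fintype_card, Fintype.card_subtype] at h2
      rw [show E.filter (fun x => x ∈ V b) = Finset.univ.filter fun x => x ∈ V b ∧ x ≠ 1 from
        Finset.ext fun x => by
          simp only [Finset.mem_filter, hmemE, Finset.mem_univ, true_and]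
          exact ⟨fun h => ⟨h.2, h.1.2⟩, fun h => ⟨⟨hle h.1, h.2⟩, h.1⟩⟩]
      exact h2
    have hsplit : (P.filter fun p => p.1 ∈ V p.2) = E.biUnion fun b => (E.filter fun x => x ∈ V b).image fun x => (x, b) := by
      ext ⟨x, b⟩
      simp only [hP, Finset.mem_filter, Finset.mem_offDiag, Finset.mem_biUnion, Finset.mem_image,
        Prod.mk.injEq]
      constructor
      · rintro ⟨⟨hx, hb, -⟩, hxb⟩
        exact ⟨b, hb, x, ⟨hx, hxb⟩, rfl, rfl⟩
      · rintro ⟨b', hb', x', ⟨hx', hxV⟩, rfl, rfl⟩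
        exact ⟨⟨hx', hb', fun h => (hV b' (hmemE.1 hb').1 (hmemE.1 hb').2).2.2 (h ▸ hxV)⟩, hxV⟩
    rw [hsplit, Finset.card_biUnion, Finset.sum_congr rfl fun b hb => by
      rw [Finset.card_image_of_injective _ fun x y h => (Prod.mk.inj h).1, hfib b hb], Finset.sum_const, hcardE]
    · rfl
    · intro b _ b' _ hne
      rw [Function.onFun, Finset.disjoint_left]
      intro p hp hp'
      obtain ⟨x, -, rfl⟩ := Finset.mem_image.1 hp
      obtain ⟨x', -, e⟩ := Finset.mem_image.1 hp'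
      exact hne (congrArg Prod.snd e).symm
  have h2 : (P.filter fun p => ¬ p.1 ∈ V p.2) = P.filter fun p => V p.1 = V p.2 := by
    refine Finset.filter_congr fun p hp => ?_
    obtain ⟨hp1, hp2, -⟩ := Finset.mem_offDiag.1 hp
    constructor
    · exact fun h => hall p.1 (hmemE.1 hp1).1 (hmemE.1 hp1).2 p.2 (hmemE.1 hp2).1 (hmemE.1 hp2).2 h
    · exact fun h hc => (hV p.1 (hmemE.1 hp1).1 (hmemE.1 hp1).2).2.2 (h ▸ hc)
  have h3 : ((P.filter fun p => V p.1 = V p.2).card : ZMod 2) = 0 := by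
    rw [Finset.cast_card]
    refine Finset.sum_involution (fun p _ => (p.2, p.1)) (fun p _ => ?_) (fun p hp _ => ?_) (fun p hp => ?_)
      (fun p _ => rfl)
    · decide
    · intro e
      exact (Finset.mem_offDiag.1 (Finset.mem_filter.1 hp).1).2.2 (congrArg Prod.snd e)
    · obtain ⟨hm, he⟩ := Finset.mem_filter.1 hp
      obtain ⟨a, b, c⟩ := Finset.mem_offDiag.1 hm
      exact Finset.mem_filter.2 ⟨Finset.mem_offDiag.2 ⟨b, a, Ne.symm c⟩, he.symm⟩
  have h4 := Finset.card_filter_add_card_filter_not (s := P) fun p => p.1 ∈ V p.2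
  have h5 : P.card = 42 := by rw [hP, Finset.offDiag_card, hcardE]
  rw [h1, h2, h5] at h4
  have h6 : (P.filter fun p => V p.1 = V p.2).card = 21 := by omega
  rw [h6] at h3
  exact absurd h3 (by decide)

/-- **The components cannot all have non-abelian Sylow 2-subgroups.** -/
theorem false_of_points (hS : Setting S A) (hSC : (S : Subgroup G) ≤ centralizer (A : Set G))
    (h8 : Nat.card A = 8) (hpts : ∀ a ∈ A, a ≠ 1 → HasFour S A a) : False := by
  classical
  choose K iK iF R T B f e hd using hpts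
  let V : G → Subgroup G := fun a => if h : a ∈ A ∧ a ≠ 1 then A ⊓ R a h.1 h.2 else ⊥
  have hVe : ∀ a (ha : a ∈ A) (ha1 : a ≠ 1), V a = A ⊓ R a ha ha1 := fun a ha ha1 => by
    simp only [V]; rw [dif_pos ⟨ha, ha1⟩]
  obtain ⟨a, ha, ha1, b, hb, hb1, hab, hne⟩ := exists_ordered_pair hS h8 V fun a ha ha1 => by
    letI := iK a ha ha1
    letI := iF a ha ha1
    rw [hVe a ha ha1]
    exact ⟨inf_le_left, card_inf (hd a ha ha1), fun h => not_mem_self (hd a ha ha1) ha1 h.2⟩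
  rw [hVe b hb hb1] at hab
  rw [hVe a ha ha1, hVe b hb hb1] at hne
  letI := iK a ha ha1
  letI := iF a ha ha1
  letI := iK b hb hb1
  letI := iF b hb hb1
  have da := hd a ha ha1
  have db := hd b hb hb1
  set Ra := R a ha ha1
  set Rb := R b hb hb1
  set ea := e a ha ha1
  set eb := e b hb hb1
  set fa := f a ha ha1
  set Ta := T a ha ha1
  set Tb := T b hb hb1
  set Ba := B a ha ha1
  set Bb := B b hb hb1
  haveI := da.four.simple
  have facts := da.four.facts
  have hB2 := da.four.closed.sq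
  have hinv : ∀ x ∈ (Ta : Subgroup (K a ha ha1)), x * x = 1 → x ∈ Ba := fun x hx hxx => by
    by_cases h1 : x = 1
    · exact h1 ▸ one_mem Ba
    · exact da.four.loc.involutions Ta Ba da.four.closed x hx (CfsgLib.Signalizer.orderOf_eq_two_of h1 hxx)
  -- the intersection
  set U := Ra ⊓ Rb with hU
  have hAU : Nat.card ↥(A ⊓ U) ≤ 2 := by
    have hle : A ⊓ U ≤ A ⊓ Ra := inf_le_inf_left A inf_le_left
    obtain ⟨k, hk⟩ := card_dvd_of_le hle
    rw [card_inf da] at hk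
    by_contra hlt
    have hk1 : k = 1 := by
      have : 3 * k ≤ 4 := hk ▸ Nat.mul_le_mul_right k (by omega)
      rcases k with _ | k
      · omega
      · omega
    rw [hk1, mul_one] at hk
    have hsub : A ⊓ U = A ⊓ Ra := eq_of_le_of_card_ge hle (by rw [card_inf da]; omega)
    refine hne (eq_of_le_of_card_ge ?_ (by rw [card_inf da, card_inf db]))
    rw [← hsub]
    exact inf_le_inf_left A inf_le_right
  have hthree : ∀ x ∈ A ⊓ U, ∀ y ∈ A ⊓ U, x ≠ 1 → y ≠ 1 → x = y := by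
    intro x hx y hy hx1 hy1
    by_contra hxy
    let g : Fin 3 → ↥(A ⊓ U) := ![1, ⟨x, hx⟩, ⟨y, hy⟩]
    have hg : Function.Injective g := by
      intro i j hij
      have hij' := congrArg Subtype.val hij
      fin_cases i <;> fin_cases j <;>
        simp [g, hx1, hy1, Ne.symm hx1, Ne.symm hy1, hxy, Ne.symm hxy] at hij' ⊢
    have := Nat.card_le_card_of_injective g hg
    rw [Nat.card_fin] at this
    omega
  have hUn : ∀ u ∈ U, ∀ r ∈ Ra, u * r * u⁻¹ * r⁻¹ ∈ U := fun u hu r hr => by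
    refine mem_inf.2 ⟨mul_mem (mul_mem (mul_mem hu.1 hr) (inv_mem hu.1)) (inv_mem hr), ?_⟩
    rw [mul_assoc u, mul_assoc u]
    exact mul_mem hu.2 (db.normal r (da.le hr) _ (inv_mem hu.2))
  have hUA : U ≤ A := by
    intro u hu
    by_contra huA
    have hw : ea ⟨u, hu.1⟩ ∉ Ba := fun h => huA ((da.inter _).2 h)
    obtain ⟨t, ht, h1, h2⟩ := facts.not_narrow hB2 hinv (da.mem _) hw
    obtain ⟨r, rfl⟩ := da.surj t ht
    have hx : u * r * u⁻¹ * (r : G)⁻¹ ∈ A ⊓ U := by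
      refine ⟨?_, hUn u hu r r.2⟩
      refine (da.inter ⟨_, (hUn u hu r r.2).1⟩).2 ?_
      rw [show (⟨u * r * u⁻¹ * (r : G)⁻¹, (hUn u hu r r.2).1⟩ : ↥Ra) = ⟨u, hu.1⟩ * r * ⟨u, hu.1⟩⁻¹ * r⁻¹ from rfl,
        map_mul, map_mul, map_mul, map_inv, map_inv]
      exact facts.comm _ (da.mem _) _ (da.mem _)
    have hy : u * u ∈ A ⊓ U := by
      refine ⟨(da.inter ⟨u * u, mul_mem hu.1 hu.1⟩).2 ?_, mul_mem hu hu⟩
      rw [show (⟨u * u, mul_mem hu.1 hu.1⟩ : ↥Ra) = ⟨u, hu.1⟩ * ⟨u, hu.1⟩ from rfl, map_mul]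
      exact facts.sq _ (da.mem _)
    have e1 : ea ⟨u * r * u⁻¹ * (r : G)⁻¹, hx.2.1⟩ = ea ⟨u, hu.1⟩ * ea r * (ea ⟨u, hu.1⟩)⁻¹ * (ea r)⁻¹ := by
      rw [show (⟨u * r * u⁻¹ * (r : G)⁻¹, hx.2.1⟩ : ↥Ra) = ⟨u, hu.1⟩ * r * ⟨u, hu.1⟩⁻¹ * r⁻¹ from rfl,
        map_mul, map_mul, map_mul, map_inv, map_inv]
    have e2 : ea ⟨u * u, hy.2.1⟩ = ea ⟨u, hu.1⟩ * ea ⟨u, hu.1⟩ := by
      rw [show (⟨u * u, hy.2.1⟩ : ↥Ra) = ⟨u, hu.1⟩ * ⟨u, hu.1⟩ from rfl, map_mul]
    refine h2 ?_
    rw [← e1, ← e2]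
    refine congrArg ea (Subtype.ext (hthree _ hx _ hy (fun h => h1 ?_) fun h => ?_))
    · rw [← e1, show (⟨u * r * u⁻¹ * (r : G)⁻¹, hx.2.1⟩ : ↥Ra) = 1 from Subtype.ext h, map_one]
    · refine hw (hinv _ (da.mem _) ?_)
      rw [← e2, show (⟨u * u, hy.2.1⟩ : ↥Ra) = 1 from Subtype.ext h, map_one]
  -- the action of `R_b` on the component at `a`
  have hinner : ∀ x (hx : x ∈ Rb), ∃ t ∈ (Ta : Subgroup (K a ha ha1)), fa ⟨x, db.le hx⟩ = MulAut.conj t := by
    intro x hx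
    set β := fa ⟨x, db.le hx⟩ with hβ
    have hconj : ∀ r : ↥Ra, ∀ h' : x * r * x⁻¹ ∈ Ra, β (ea r) = ea ⟨x * r * x⁻¹, h'⟩ := by
      intro r h'
      refine conj_injective da ?_
      rw [← da.comp ⟨_, h'⟩, show MulAut.conj (β (ea r)) = β * MulAut.conj (ea r) * β⁻¹ by ext g; simp,
        ← da.comp r, hβ, ← map_inv, ← map_mul, ← map_mul]
      rfl
    obtain ⟨i, hi⟩ := S.2 ⟨x, db.le hx⟩
    refine facts.inner da.four.loc da.four.closed
      (fun h => da.four.nonab Ta ⟨⟨fun p q => Subtype.ext (h.is_comm.comm (p : K a ha ha1) q)⟩⟩)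
      β (n := i) (by rw [hβ, ← map_pow, hi, map_one]) (fun y hy => ?_) fun y hy => ?_
    · obtain ⟨r, rfl⟩ := da.surj y (da.four.closed.closed.1 hy)
      have h' : x * r * x⁻¹ = r := by
        rw [← mem_centralizer_iff.1 (hSC (db.le hx)) _ ((da.inter r).2 hy), mul_inv_cancel_right]
      rw [hconj r (h'.symm ▸ r.2)]
      exact congrArg ea (Subtype.ext h')
    · obtain ⟨r, rfl⟩ := da.surj y hy
      have h' : x * r * x⁻¹ ∈ Ra := da.normal x (db.le hx) r r.2
      have hxr : x * r * x⁻¹ * (r : G)⁻¹ ∈ U := mem_inf.2 ⟨mul_mem h' (inv_mem r.2), by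
        rw [mul_assoc x, mul_assoc x]
        exact mul_mem hx (db.normal r (da.le r.2) _ (inv_mem hx))⟩
      rw [hconj r h', ← map_inv, ← map_mul]
      exact (da.inter _).1 (hUA hxr)
  let W : Subgroup G :=
    ((U.subgroupOf (S : Subgroup G)).map fa).comap fa |>.map (S : Subgroup G).subtype
  have hW : ⁅Rb, Rb⁆ ≤ W := by
    refine commutator_le.2 fun x hx y hy => ?_
    obtain ⟨t, ht, hfx⟩ := hinner x hx
    obtain ⟨t', ht', hfy⟩ := hinner y hy
    obtain ⟨r, rfl⟩ := da.surj t' ht'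
    have h' : x * r * x⁻¹ ∈ Ra := da.normal x (db.le hx) r r.2
    have hxr : x * r * x⁻¹ * (r : G)⁻¹ ∈ U := mem_inf.2 ⟨mul_mem h' (inv_mem r.2), by
      rw [mul_assoc x, mul_assoc x]
      exact mul_mem hx (db.normal r (da.le r.2) _ (inv_mem hx))⟩
    refine ⟨⟨x, db.le hx⟩ * ⟨y, db.le hy⟩ * ⟨x, db.le hx⟩⁻¹ * ⟨y, db.le hy⟩⁻¹,
      mem_comap.2 ⟨⟨_, da.le hxr.1⟩, mem_subgroupOf.2 hxr, ?_⟩, by rw [commutatorElement_def]; rfl⟩
    rw [show (⟨_, da.le hxr.1⟩ : ↥(S : Subgroup G)) =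
      ⟨x, db.le hx⟩ * ⟨r, da.le r.2⟩ * ⟨x, db.le hx⟩⁻¹ * ⟨r, da.le r.2⟩⁻¹ from rfl]
    simp only [map_mul, map_inv, hfx, hfy, da.comp r]
  have hVb : A ⊓ Rb ≤ ⁅Rb, Rb⁆ := by
    have fb := db.four.facts
    intro v hv
    have h1 := fb.derived (db.four.nonab Tb) ((db.inter ⟨v, hv.2⟩).1 hv.1)
    have h2 : ⁅(Tb : Subgroup (K b hb hb1)), (Tb : Subgroup (K b hb hb1))⁆ ≤
        Subgroup.map eb ⁅(⊤ : Subgroup ↥Rb), (⊤ : Subgroup ↥Rb)⁆ := by
      rw [Subgroup.map_commutator]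
      refine commutator_mono ?_ ?_ <;>
      · intro t ht
        obtain ⟨r, rfl⟩ := db.surj t ht
        exact ⟨r, mem_top r, rfl⟩
    obtain ⟨r, hr, her⟩ := h2 h1
    obtain rfl := db.inj her
    have h3 : Subgroup.map Rb.subtype ⁅(⊤ : Subgroup ↥Rb), (⊤ : Subgroup ↥Rb)⁆ ≤ ⁅Rb, Rb⁆ := by
      rw [Subgroup.map_commutator, ← MonoidHom.range_eq_map, Subgroup.range_subtype]
    exact h3 ⟨_, hr, rfl⟩
  -- an injection of four elements into two
  have hcardW : Nat.card ↥((U.subgroupOf (S : Subgroup G)).map fa) ≤ 2 := by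
    refine (Nat.le_of_dvd Nat.card_pos (card_map_dvd _ fa)).trans ?_
    rw [Nat.card_congr (subgroupOfEquivOfLe ((inf_le_left : U ≤ Ra).trans da.le)).toEquiv]
    exact (card_le_of_le (le_inf hUA le_rfl)).trans hAU
  let ψ : ↥(A ⊓ Rb) → ↥((U.subgroupOf (S : Subgroup G)).map fa) := fun v =>
    ⟨fa ⟨(v : G), db.le v.2.2⟩, by
      obtain ⟨s, hs, hsv⟩ := hW (hVb v.2)
      have : s = ⟨(v : G), db.le v.2.2⟩ := Subtype.ext hsv
      exact this ▸ mem_comap.1 hs⟩
  have hker : ∀ x ∈ A, ∀ hx : x ∈ (S : Subgroup G), fa ⟨x, hx⟩ = 1 → x = 1 ∨ x = a := by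
    intro x hxA hxS hfx
    let φ : Fin 2 × ↥(A ⊓ Ra) → ↥A := fun p =>
      ⟨(if p.1 = 0 then 1 else a) * (p.2 : G), mul_mem (by split; exacts [one_mem A, ha]) p.2.2.1⟩
    have hφ : Function.Injective φ := by
      rintro ⟨i, r⟩ ⟨j, r'⟩ h
      have h' : (if i = 0 then 1 else a) * (r : G) = (if j = 0 then 1 else a) * (r' : G) :=
        congrArg Subtype.val h
      have key : ∀ {p q : ↥(A ⊓ Ra)}, a * (p : G) = (q : G) → False := fun {p q} h' =>
        not_mem_self da ha1 (by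
          have e : a = (q : G) * (p : G)⁻¹ := eq_mul_inv_of_mul_eq h'
          have hm : (q : G) * (p : G)⁻¹ ∈ Ra := mul_mem q.2.2 (inv_mem p.2.2)
          rwa [← e] at hm)
      fin_cases i <;> fin_cases j <;> simp at h'
      · rw [h']
      · exact (key h'.symm).elim
      · exact (key h').elim
      · rw [h']
    have hsurj := (Nat.bijective_iff_injective_and_card φ).2 ⟨hφ, by
      rw [Nat.card_prod, Nat.card_fin, card_inf da, h8]⟩
    obtain ⟨⟨i, r⟩, hir⟩ := hsurj.2 ⟨x, hxA⟩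
    have hxr : x = (if i = 0 then 1 else a) * (r : G) := (congrArg Subtype.val hir).symm
    have haS : a ∈ (S : Subgroup G) := hS.closed.1 ha
    have hr : fa ⟨(r : G), da.le r.2.2⟩ = 1 := by
      fin_cases i
      · simp at hxr
        subst hxr
        exact hfx
      · simp at hxr
        subst hxr
        rw [show (⟨a * (r : G), hxS⟩ : ↥(S : Subgroup G)) = ⟨a, haS⟩ * ⟨r, da.le r.2.2⟩ from rfl,
          map_mul, da.kill haS, one_mul] at hfx
        exact hfx
    rw [da.comp ⟨(r : G), r.2.2⟩, ← map_one (MulAut.conj : K a ha ha1 →* MulAut (K a ha ha1))] at hr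
    have hr1 : (⟨(r : G), r.2.2⟩ : ↥Ra) = 1 := da.inj ((conj_injective da hr).trans (map_one ea).symm)
    rw [hxr, show (r : G) = 1 from congrArg Subtype.val hr1, mul_one]
    fin_cases i <;> simp
  have hψ : Function.Injective ψ := by
    intro v v' h
    have h' : fa ⟨(v : G), db.le v.2.2⟩ = fa ⟨(v' : G), db.le v'.2.2⟩ := congrArg Subtype.val h
    have hmem : (v : G)⁻¹ * v' ∈ A ⊓ Rb := mul_mem (inv_mem v.2) v'.2
    have h1 : fa ⟨(v : G)⁻¹ * v', db.le hmem.2⟩ = 1 := by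
      rw [show (⟨(v : G)⁻¹ * v', db.le hmem.2⟩ : ↥(S : Subgroup G)) =
        ⟨v, db.le v.2.2⟩⁻¹ * ⟨v', db.le v'.2.2⟩ from rfl, map_mul, map_inv, h', inv_mul_cancel]
    rcases hker _ hmem.1 _ h1 with h2 | h2
    · exact Subtype.ext (inv_mul_eq_one.1 h2)
    · exact absurd (h2 ▸ hmem) hab
  have hfinal := (Nat.card_le_card_of_injective ψ hψ).trans hcardW
  rw [card_inf db] at hfinal
  omega

end CfsgLib.Invol.Goldschmidt.RankThree
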