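import Cfsg.Agent.Lib.Invol.Goldschmidt.Dichotomy
import Cfsg.Agent.Lib.TwoFusion.ProductFusion.Setup
import Cfsg.Agent.Lib.Components.LocalBalance
import Mathlib.GroupTheory.Transfer

/-!
Owner: helper1. S1169, case III: no homomorphism of `S` into an elementary abelian group is nontrivial on `A`.

* `le_centralizer_of_odd`: `A` is central in `S` when `N(A)/C(A)` has odd order.
* `exists_retraction`: such a homomorphism gives a retraction `S → A` (irreducibility, Frattini argument).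
* `false_of_quotient`: transfer and averaging over `N(A)/C(A)` give a strongly closed complement, so `S = A`.
-/

set_option autoImplicit false
set_option linter.style.haveILetI false
set_option linter.unusedSectionVars false

namespace CfsgLib.Invol.Goldschmidt.RankThree

open Subgroup
open scoped commutatorElement

universe u

variable {G : Type u} [Group G] [Finite G] {S : Sylow 2 G} {A : Subgroup G}

theorem le_centralizer_of_odd (hS : Setting S A)
    (hodd : Odd ((centralizer (A : Set G)).relIndex (normalizer (A : Set G)))) :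
    (S : Subgroup G) ≤ centralizer (A : Set G) := by
  haveI : Fact (Nat.Prime 2) := ⟨Nat.prime_two⟩
  intro s hs
  set N := normalizer (A : Set G)
  haveI : ((centralizer (A : Set G)).subgroupOf N).Normal :=
    normal_subgroupOf_of_le_normalizer (CfsgLib.Components.normalizer_le_normalizer_centralizer' A)
  set π := QuotientGroup.mk' ((centralizer (A : Set G)).subgroupOf N) with hπ
  obtain ⟨k, hk⟩ := S.2 ⟨s, hs⟩
  have h1 : orderOf (π ⟨s, hS.sylow_le hs⟩) ∣ 2 ^ k := orderOf_dvd_of_pow_eq_one (by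
    rw [← map_pow, show (⟨s, hS.sylow_le hs⟩ : N) ^ 2 ^ k = 1 from
      Subtype.ext (congrArg Subtype.val hk :), map_one])
  have h2 : orderOf (π ⟨s, hS.sylow_le hs⟩) ∣ (centralizer (A : Set G)).relIndex N := by
    rw [relIndex, index_eq_card]
    exact orderOf_dvd_natCard _
  have h3 := Nat.eq_one_of_dvd_coprimes ((Nat.coprime_two_left.2 hodd).pow_left k) h1 h2
  rw [orderOf_eq_one_iff] at h3
  exact mem_subgroupOf.1 ((QuotientGroup.eq_one_iff _).1 h3)

section

variable (hS : Setting S A) (hSC : (S : Subgroup G) ≤ centralizer (A : Set G))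
include hS hSC

theorem A_le : A ≤ (S : Subgroup G) := hS.closed.1

theorem central {a s : G} (ha : a ∈ A) (hs : s ∈ (S : Subgroup G)) : a * s = s * a :=
  mem_centralizer_iff.1 (hSC hs) a ha

/-- Frattini: `N(A) = C(A) (N(A) ⊓ N(S))`. -/
theorem exists_factor {n : G} (hn : n ∈ normalizer (A : Set G)) :
    ∃ c ∈ centralizer (A : Set G), ∃ m ∈ normalizer (A : Set G),
      cj m (S : Subgroup G) = S ∧ n = c * m := by
  haveI : Fact (Nat.Prime 2) := ⟨Nat.prime_two⟩
  set C := centralizer (A : Set G)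
  have hle : cj n (S : Subgroup G) ≤ C := by
    rintro _ ⟨x, hx, rfl⟩
    have hnn := CfsgLib.Components.normalizer_le_normalizer_centralizer' A hn
    exact (mem_normalizer_iff.1 hnn x).1 (hSC hx)
  set S' : Sylow 2 G := n • S with hS'
  have hS'e : (S' : Subgroup G) = cj n (S : Subgroup G) := rfl
  obtain ⟨c, hc⟩ := MulAction.exists_smul_eq ↥C (S'.subtype (hS'e ▸ hle)) (S.subtype hSC)
  refine ⟨(c : G)⁻¹, inv_mem c.2, (c : G) * n, mul_mem (centralizer_le_normalizer _ c.2) hn, ?_,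
    by rw [inv_mul_cancel_left]⟩
  have h1 : ((c : G) • S') = S := by
    apply Sylow.subtype_injective (hP := ?_) (hQ := hSC) (by rw [← hc, Sylow.smul_subtype]; rfl)


  rw [cj_mul']
  exact congrArg (fun P : Sylow 2 G => (P : Subgroup G)) h1

/-- The subgroup generated by the squares of `S`. -/
def squares (S : Sylow 2 G) : Subgroup G := closure {x | ∃ s ∈ (S : Subgroup G), x = s * s}

theorem squares_le : squares S ≤ (S : Subgroup G) :=
  (closure_le _).2 (by rintro _ ⟨s, hs, rfl⟩; exact mul_mem hs hs)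

theorem comm_mem_squares {x y : G} (hx : x ∈ (S : Subgroup G)) (hy : y ∈ (S : Subgroup G)) :
    x * y * x⁻¹ * y⁻¹ ∈ squares S := by
  have h : ∀ s ∈ (S : Subgroup G), s * s ∈ squares S := fun s hs => subset_closure ⟨s, hs, rfl⟩
  have e : x * y * x⁻¹ * y⁻¹ = (x * y) * (x * y) * ((y⁻¹ * x⁻¹ * y) * (y⁻¹ * x⁻¹ * y)) * (y⁻¹ * y⁻¹) := by
    group
  rw [e]
  exact mul_mem (mul_mem (h _ (mul_mem hx hy))
    (h _ (mul_mem (mul_mem (inv_mem hy) (inv_mem hx)) hy))) (h _ (inv_mem hy))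

/-- A retraction of `S` onto `A`. -/
theorem exists_retraction {M : Type*} [Group M] (ψ : ↥(S : Subgroup G) →* M)
    (hψ : ∀ s, ψ s * ψ s = 1) {a₀ : ↥(S : Subgroup G)} (ha₀ : (a₀ : G) ∈ A) (hne : ψ a₀ ≠ 1) :
    ∃ φ : ↥(S : Subgroup G) →* ↥A, ∀ s : ↥(S : Subgroup G), ∀ h : (s : G) ∈ A, φ s = ⟨s, h⟩ := by
  classical
  set Q := squares S with hQ
  have hQker : ∀ x, ∀ hx : x ∈ (S : Subgroup G), x ∈ Q → ψ ⟨x, hx⟩ = 1 := by
    have hle : Q ≤ ψ.ker.map (S : Subgroup G).subtype := (closure_le _).2 (by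
      rintro _ ⟨s, hs, rfl⟩
      exact ⟨⟨s, hs⟩ * ⟨s, hs⟩, by rw [SetLike.mem_coe, MonoidHom.mem_ker, map_mul, hψ], rfl⟩)
    intro x hx hxQ
    obtain ⟨y, hy, e⟩ := hle hxQ
    obtain rfl : y = ⟨x, hx⟩ := Subtype.ext e
    exact hy
  -- `Q` meets `A` trivially
  have hinv : ∀ g ∈ normalizer (A : Set G), cj g (A ⊓ Q) = A ⊓ Q := by
    intro g hg
    obtain ⟨c, hc, m, hm, hmS, rfl⟩ := exists_factor hS hSC hg
    refine eq_of_le_of_card_ge ?_ (cj_card _ _).ge
    have hQm : ∀ x ∈ Q, m * x * m⁻¹ ∈ Q := by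
      have hle : Q.map (MulAut.conj m).toMonoidHom ≤ Q := by
        rw [hQ, squares, MonoidHom.map_closure, closure_le]
        rintro _ ⟨_, ⟨s, hs, rfl⟩, rfl⟩
        refine subset_closure ⟨_, hmS.le ⟨s, hs, rfl⟩, ?_⟩
        simp [mul_assoc]
      exact fun x hx => hle ⟨x, hx, rfl⟩
    rintro _ ⟨x, hx, rfl⟩
    show c * m * x * (c * m)⁻¹ ∈ A ⊓ Q
    have h1 : m * x * m⁻¹ ∈ A := (mem_normalizer_iff.1 hm x).1 hx.1
    rw [show c * m * x * (c * m)⁻¹ = c * (m * x * m⁻¹) * c⁻¹ by group,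
      ← mem_centralizer_iff.1 hc _ h1, mul_inv_cancel_right]
    exact ⟨h1, hQm x hx.2⟩
  have hAQ : A ⊓ Q = ⊥ := (hS.irred _ inf_le_left hinv).resolve_right fun e =>
    hne (hQker a₀ a₀.2 (inf_eq_left.1 e ha₀))
  -- a complement containing `Q`
  obtain ⟨R, hR⟩ := (Set.toFinite {R : Subgroup G | Q ≤ R ∧ R ≤ (S : Subgroup G) ∧ A ⊓ R = ⊥}).exists_maximal
    ⟨Q, le_rfl, squares_le hS hSC, hAQ⟩
  obtain ⟨hQR, hRS, hAR⟩ := hR.1
  have hRn : ∀ x ∈ (S : Subgroup G), x ∈ normalizer (R : Set G) := fun x hx =>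
    mem_normalizer_fintype fun r hr => by
      have := mul_mem (hQR (comm_mem_squares hS hSC hx (hRS hr))) hr
      rwa [inv_mul_cancel_right] at this
  have huniq : ∀ α ∈ A, ∀ β ∈ A, ∀ s : G, α * s ∈ R → β * s ∈ R → α = β := by
    intro α hα β hβ s h1 h2
    have h3 : α * β⁻¹ ∈ A ⊓ R := mem_inf.2 ⟨mul_mem hα (inv_mem hβ), by
      have := mul_mem h1 (inv_mem h2)
      rwa [show α * s * (β * s)⁻¹ = α * β⁻¹ by group] at this⟩
    rw [hAR, mem_bot] at h3
    exact mul_inv_eq_one.1 h3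
  have hex : ∀ s ∈ (S : Subgroup G), ∃ α ∈ A, α * s ∈ R := by
    intro s hs
    by_contra hno
    push Not at hno
    have hs' : s ∉ R := fun h => hno 1 (one_mem _) (by rwa [one_mul])
    have hn : zpowers s ≤ normalizer (R : Set G) := zpowers_le.2 (hRn s hs)
    refine hs' (hR.2 ⟨hQR.trans le_sup_right, sup_le (zpowers_le.2 hs) hRS, ?_⟩ le_sup_right
      (mem_sup_left (mem_zpowers s)))
    refine (eq_bot_iff_forall _).2 fun α hα => ?_
    obtain ⟨w, ⟨i, rfl⟩, r, hr, e⟩ := (CfsgLib.Core.mem_sup_iff_mul hn).1 hα.2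
    simp only at e
    have hsq : s * s ∈ R := hQR (subset_closure ⟨s, hs, rfl⟩)
    rcases Int.even_or_odd' i with ⟨k, rfl | rfl⟩
    · refine mem_bot.1 (hAR ▸ mem_inf.2 ⟨hα.1, ?_⟩)
      rw [e, zpow_mul, zpow_two]
      exact mul_mem (zpow_mem hsq k) hr
    · exfalso
      refine hno α⁻¹ (inv_mem hα.1) ?_
      rw [e, zpow_add_one, zpow_mul, zpow_two, show ((s * s) ^ k * s * r)⁻¹ * s =
        r⁻¹ * (s⁻¹ * ((s * s) ^ k)⁻¹ * s) by group]
      refine mul_mem (inv_mem hr) ?_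
      have := (mem_normalizer_iff''.1 (hRn s hs) _).1 (inv_mem (zpow_mem hsq k))
      exact this
  choose f hfA hfR using hex
  have hmul : ∀ s t : ↥(S : Subgroup G), f _ (s * t).2 = f _ s.2 * f _ t.2 := by
    intro s t
    refine huniq _ (hfA _ (s * t).2) _ (mul_mem (hfA _ s.2) (hfA _ t.2)) (s * t : G) (hfR _ (s * t).2) ?_
    have := mul_mem (hfR _ s.2) (hfR _ t.2)
    rwa [show f _ s.2 * (s : G) * (f _ t.2 * t) = f _ s.2 * ((s : G) * f _ t.2) * t by group,
      ← central hS hSC (hfA _ t.2) s.2,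
      show f _ s.2 * (f _ t.2 * (s : G)) * t = f _ s.2 * f _ t.2 * ((s : G) * t) by group] at this
  have hcomm : ∀ α ∈ A, ∀ β ∈ A, α * β = β * α := fun α hα β hβ => hS.comm hα hβ
  refine ⟨MonoidHom.mk' (fun s => (⟨f _ s.2, hfA _ s.2⟩ : ↥A)⁻¹) fun s t => ?_, fun s h => ?_⟩
  · refine Subtype.ext ?_
    show (f _ (s * t).2)⁻¹ = (f _ s.2)⁻¹ * (f _ t.2)⁻¹
    rw [hmul, mul_inv_rev, hcomm _ (inv_mem (hfA _ t.2)) _ (inv_mem (hfA _ s.2))]
  · refine Subtype.ext ?_
    show (f _ s.2)⁻¹ = s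
    have h1 : f _ s.2 * s ∈ A ⊓ R := ⟨mul_mem (hfA _ s.2) h, hfR _ s.2⟩
    rw [hAR, mem_bot] at h1
    exact inv_eq_of_mul_eq_one_right h1

end

/-- Conjugation by an element of the normalizer, on `A`. -/
def conjA (m : G) (hm : m ∈ normalizer (A : Set G)) : ↥A →* ↥A :=
  MonoidHom.mk' (fun x => ⟨m * x * m⁻¹, (mem_normalizer_iff.1 hm x).1 x.2⟩)
    fun x y => Subtype.ext (by simp [mul_assoc])

/-- A homomorphism onto `A` from `C(A)`, equivariant under `N(A)`. -/
theorem exists_equivariant (hS : Setting S A) (hSC : (S : Subgroup G) ≤ centralizer (A : Set G))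
    (hodd : Odd ((centralizer (A : Set G)).relIndex (normalizer (A : Set G))))
    (φ : ↥(S : Subgroup G) →* ↥A) (hφ : ∀ s : ↥(S : Subgroup G), ∀ h : (s : G) ∈ A, φ s = ⟨s, h⟩) :
    ∃ τ : ↥(centralizer (A : Set G)) →* ↥A,
      (∀ a : ↥(centralizer (A : Set G)), ∀ h : (a : G) ∈ A, τ a = ⟨a, h⟩) ∧
      ∀ m ∈ normalizer (A : Set G), ∀ x y : ↥(centralizer (A : Set G)),
        (y : G) = m * x * m⁻¹ → ((τ y : ↥A) : G) = m * (τ x : ↥A) * m⁻¹ := by
  classical
  haveI := hS.elem.1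
  letI : CommGroup ↥A := { (inferInstance : Group ↥A) with mul_comm := fun x y => mul_comm' x y }
  haveI : Fact (Nat.Prime 2) := ⟨Nat.prime_two⟩
  set C := centralizer (A : Set G) with hC
  set N := normalizer (A : Set G) with hN
  have hCN : C ≤ N := centralizer_le_normalizer _
  have hsq : ∀ α : ↥A, α ^ 2 = 1 := fun α => Subtype.ext (by
    rw [Subgroup.coe_pow, pow_two]; exact hS.sq α.2)
  have hpow : ∀ (α : ↥A) {k : ℕ}, Odd k → α ^ k = α := by
    rintro α k ⟨j, rfl⟩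
    rw [pow_succ, pow_mul, hsq, one_pow, one_mul]
  -- the transfer
  set SC := (S : Subgroup G).subgroupOf C
  have hidx : Odd SC.index := by
    rw [Nat.odd_iff, ← Nat.not_even_iff, even_iff_two_dvd, show SC = (S.subtype hSC : Subgroup C) from rfl]
    exact (S.subtype hSC).not_dvd_index
  let φ' : ↥SC →* ↥A := φ.comp
    (MonoidHom.mk' (fun x => (⟨((x : ↥C) : G), x.2⟩ : ↥(S : Subgroup G))) fun x y => rfl)
  set V : ↥C →* ↥A := MonoidHom.transfer φ' with hV
  have hVA : ∀ a : ↥C, ∀ h : (a : G) ∈ A, V a = ⟨a, h⟩ := by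
    intro a h
    have key : ∀ (k : ℕ) (g₀ : ↥C), g₀⁻¹ * a ^ k * g₀ ∈ SC → g₀⁻¹ * a ^ k * g₀ = a ^ k := by
      intro k g₀ _
      refine Subtype.ext ?_
      simp only [Subgroup.coe_mul, Subgroup.coe_inv, Subgroup.coe_pow]
      rw [mul_assoc, mem_centralizer_iff.1 g₀.2 _ (pow_mem h k), inv_mul_cancel_left]
    rw [hV, MonoidHom.transfer_eq_pow φ' a key]
    show φ ⟨((a ^ SC.index : ↥C) : G), _⟩ = _
    rw [hφ _ (by rw [Subgroup.coe_pow]; exact pow_mem h _)]
    exact Subtype.ext (congrArg Subtype.val (hpow ⟨(a : G), h⟩ hidx) :)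
  -- the average
  haveI : (C.subgroupOf N).Normal :=
    normal_subgroupOf_of_le_normalizer (CfsgLib.Components.normalizer_le_normalizer_centralizer' A)
  haveI := Fintype.ofFinite (↥N ⧸ C.subgroupOf N)
  have hback : ∀ (n : ↥N) (x : ↥C), (n : G)⁻¹ * x * n ∈ C := fun n x =>
    (mem_normalizer_iff''.1 (CfsgLib.Components.normalizer_le_normalizer_centralizer' A n.2) _).1 x.2
  let θ : ↥N → (↥C →* ↥A) := fun n => (conjA (n : G) n.2).comp
    (V.comp (MonoidHom.mk' (fun x => (⟨(n : G)⁻¹ * x * n, hback n x⟩ : ↥C))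
      fun x y => Subtype.ext (by simp [mul_assoc])))
  have hθval : ∀ (n : ↥N) (x : ↥C), ((θ n x : ↥A) : G) = n * (V ⟨(n : G)⁻¹ * x * n, hback n x⟩ : ↥A) * (n : G)⁻¹ :=
    fun n x => rfl
  have hθ : ∀ n n' : ↥N, QuotientGroup.mk (s := C.subgroupOf N) n = QuotientGroup.mk n' → θ n = θ n' := by
    intro n n' e
    have hc : (n : G)⁻¹ * n' ∈ C := mem_subgroupOf.1 (QuotientGroup.eq.1 e)
    refine MonoidHom.ext fun x => Subtype.ext ?_
    set y : ↥C := ⟨(n' : G)⁻¹ * x * n', hback n' x⟩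
    set d : ↥C := ⟨(n : G)⁻¹ * n', hc⟩
    have e1 : (⟨(n : G)⁻¹ * x * n, hback n x⟩ : ↥C) = d * y * d⁻¹ := Subtype.ext (by
      simp only [y, d, Subgroup.coe_mul, Subgroup.coe_inv]; group)
    have e2 : V (d * y * d⁻¹) = V y := by rw [map_mul, map_mul, map_inv, mul_comm (V d), mul_inv_cancel_right]
    rw [hθval, hθval, e1, e2]
    show _ = (n' : G) * (V y : ↥A) * (n' : G)⁻¹
    have e3 : (n' : G) = n * d := by simp only [d]; group
    rw [e3, show (n : G) * d * (V y : ↥A) * ((n : G) * d)⁻¹ = n * (d * (V y : ↥A) * (d : G)⁻¹) * (n : G)⁻¹ by group,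
      ← mem_centralizer_iff.1 d.2 _ (V y).2, mul_inv_cancel_right]
  refine ⟨∏ q : ↥N ⧸ C.subgroupOf N, θ q.out, fun a h => ?_, fun m hm x y hxy => ?_⟩
  · rw [MonoidHom.finsetProd_apply, Finset.prod_congr rfl fun q _ => (show θ q.out a = ⟨a, h⟩ from
      Subtype.ext (by
        rw [hθval, hVA _ ((mem_normalizer_iff''.1 q.out.2 _).1 h)]
        group)), Finset.prod_const, Finset.card_univ]
    refine hpow _ ?_
    rw [← Nat.card_eq_fintype_card, ← index_eq_card]
    exact hodd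
  · set T := ∏ q : ↥N ⧸ C.subgroupOf N, θ q.out with hT
    have h1 : T y = conjA m hm (T x) := by
      rw [hT, MonoidHom.finsetProd_apply, MonoidHom.finsetProd_apply, map_prod]
      refine Fintype.prod_equiv (Equiv.mulLeft (QuotientGroup.mk (⟨m, hm⟩ : ↥N))⁻¹) _ _ fun q => ?_
      have h2 : θ (Quotient.out ((QuotientGroup.mk (⟨m, hm⟩ : ↥N))⁻¹ * q)) = θ (⟨m, hm⟩⁻¹ * q.out) :=
        hθ _ _ (by rw [QuotientGroup.out_eq', QuotientGroup.mk_mul, QuotientGroup.mk_inv, QuotientGroup.out_eq'])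
      rw [Equiv.coe_mulLeft, h2]
      refine Subtype.ext ?_
      show _ = m * ((θ (⟨m, hm⟩⁻¹ * q.out) x : ↥A) : G) * m⁻¹
      rw [hθval, hθval]
      simp only [Subgroup.coe_mul, Subgroup.coe_inv]
      have e : (⟨(q.out : G)⁻¹ * y * q.out, hback q.out y⟩ : ↥C) =
          ⟨(m⁻¹ * (q.out : G))⁻¹ * x * (m⁻¹ * (q.out : G)), hback (⟨m, hm⟩⁻¹ * q.out) x⟩ :=
        Subtype.ext (show (q.out : G)⁻¹ * (y : G) * q.out =
          (m⁻¹ * (q.out : G))⁻¹ * (x : G) * (m⁻¹ * (q.out : G)) by rw [hxy]; group)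
      rw [e]
      group
    rw [h1]
    rfl

/-- **A homomorphism of `S` into an elementary abelian group is trivial on `A`.** -/
theorem false_of_quotient (hS : Setting S A)
    (hodd : Odd ((centralizer (A : Set G)).relIndex (normalizer (A : Set G))))
    {M : Type*} [Group M] (ψ : ↥(S : Subgroup G) →* M) (hψ : ∀ s, ψ s * ψ s = 1)
    {a₀ : ↥(S : Subgroup G)} (ha₀ : (a₀ : G) ∈ A) (hne : ψ a₀ ≠ 1) : False := by
  haveI := hS.simple
  have hSC := le_centralizer_of_odd hS hodd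
  obtain ⟨φ, hφ⟩ := exists_retraction hS hSC ψ hψ ha₀ hne
  obtain ⟨τ, hτA, hτ⟩ := exists_equivariant hS hSC hodd φ hφ
  let D : Subgroup G := (τ.ker.map (centralizer (A : Set G)).subtype) ⊓ (S : Subgroup G)
  have hD : ∀ {x : G} (hx : x ∈ (S : Subgroup G)), x ∈ D ↔ τ ⟨x, hSC hx⟩ = 1 := by
    intro x hx
    refine ⟨fun h => ?_, fun h => ⟨⟨_, h, rfl⟩, hx⟩⟩
    obtain ⟨y, hy, e⟩ := (mem_inf.1 h).1
    obtain rfl : y = ⟨x, hSC hx⟩ := Subtype.ext e
    exact hy
  have hDcl : Cfsg.IsStronglyClosed D (S : Subgroup G) := by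
    refine ⟨inf_le_right, fun x hx g hg => ?_⟩
    obtain ⟨n, hn, e⟩ := hS.control x (mem_inf.1 hx).2 g hg
    refine (hD hg).2 (Subtype.ext ?_)
    rw [hτ n hn ⟨x, hSC (mem_inf.1 hx).2⟩ ⟨g * x * g⁻¹, hSC hg⟩ e.symm,
      (hD (mem_inf.1 hx).2).1 hx, Subgroup.coe_one, mul_one, mul_inv_cancel]
  have hdisj : A ⊓ D = ⊥ := by
    refine (eq_bot_iff_forall _).2 fun x hx => ?_
    have h1 := (hD (mem_inf.1 (mem_inf.1 hx).2).2).1 (mem_inf.1 hx).2
    rw [hτA _ (mem_inf.1 hx).1] at h1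
    exact congrArg Subtype.val h1
  have hP := CfsgLib.TwoFusion.ProductFusion.normalClosure_commutator_le hS.closed hDcl
    (fun a ha s hs => central hS hSC ha (mem_inf.1 hs).2) hdisj
  have hO : Cfsg.oddCore G = ⊥ := by
    refine ((inferInstance : (Cfsg.oddCore G).Normal).eq_bot_or_eq_top).resolve_right fun h => ?_
    have h1 := CfsgLib.ZStar.odd_card_oddCore G
    rw [h, card_top] at h1
    haveI : Fact (Nat.Prime 2) := ⟨Nat.prime_two⟩
    have h2 : A = ⊥ := by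
      refine (eq_bot_iff_forall _).2 fun x hx => ?_
      obtain ⟨j, hj⟩ := h1
      have h3 := pow_card_eq_one' (G := G) (x := x)
      rwa [hj, pow_succ, pow_mul, pow_two, hS.sq hx, one_pow, one_mul] at h3
    have := hS.four
    rw [h2, card_bot] at this
    omega
  rw [hO] at hP
  have htop : normalClosure (A : Set G) = ⊤ := by
    refine ((inferInstance : (normalClosure (A : Set G)).Normal).eq_bot_or_eq_top).resolve_left fun h => ?_
    have h1 : A = ⊥ := eq_bot_iff.2 fun x hx => h ▸ subset_normalClosure hx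
    have := hS.four
    rw [h1, card_bot] at this
    omega
  have hnc : center G = ⊥ := by
    refine ((inferInstance : (center G).Normal).eq_bot_or_eq_top).resolve_right fun h => ?_
    exact hS.noncomm ⟨⟨fun p q => Subtype.ext (mem_center_iff.1 (h.symm ▸ mem_top _ : (q : G) ∈ center G) p)⟩⟩
  have hD1 : ∀ s ∈ D, s = 1 := fun s hs => mem_bot.1 (hnc ▸ mem_center_iff.2 fun g =>
    (commutatorElement_eq_one_iff_commute.1 (mem_bot.1 (hP (commutator_mem_commutator
      (htop ▸ mem_top g) (subset_normalClosure hs))))).eq)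
  have hSA : (S : Subgroup G) ≤ A := fun s hs => by
    set α : ↥A := τ ⟨s, hSC hs⟩ with hα
    have hαS : (α : G) ∈ (S : Subgroup G) := hS.closed.1 α.2
    have h1 : (α : G)⁻¹ * s ∈ D := (hD (mul_mem (inv_mem hαS) hs)).2 (by
      rw [show (⟨(α : G)⁻¹ * s, hSC (mul_mem (inv_mem hαS) hs)⟩ : ↥(centralizer (A : Set G))) =
        ⟨(α : G), hSC hαS⟩⁻¹ * ⟨s, hSC hs⟩ from rfl, map_mul, map_inv, hτA ⟨(α : G), hSC hαS⟩ α.2,
        ← hα, inv_mul_cancel])
    rw [← inv_mul_eq_one.1 (hD1 _ h1)]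
    exact α.2
  exact hS.noncomm ⟨⟨fun p q => Subtype.ext (hS.comm (hSA p.2) (hSA q.2))⟩⟩

end CfsgLib.Invol.Goldschmidt.RankThree
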