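import Cfsg.Agent.Lib.Invol.Goldschmidt.RankThree.Pair
import Cfsg.Agent.Lib.Invol.Goldschmidt.RankThree.Split
import Cfsg.Agent.Lib.Invol.Goldschmidt.Sections.CoverLocal
import Cfsg.Agent.Lib.Recog.Walter.RankThreeShape
import Cfsg.Agent.Lib.Recog.Walter.Sections.AutInner

/-!
Owner: helper1. **S1169, case III.** `|A| = 8` and `N(A)/C(A)` odd: no point of `A` sees a moved component at
every involution of `A`.

* `PointSection`: `S` modulo the core of `C(a)`, with a moved component centralised by `a`.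
* `quotient_or_four`: the component gives an elementary quotient of `S` (abelian Sylow) or a `HasFour`.
* `rankThree`: the contradiction.
-/

set_option autoImplicit false
set_option linter.style.haveILetI false
set_option linter.unusedSectionVars false

namespace CfsgLib.Invol.Goldschmidt.RankThree

open Subgroup
open scoped commutatorElement

universe u

variable {G : Type u} [Group G] [Finite G] {S : Sylow 2 G} {A : Subgroup G}

/-- A moved component at `a`, seen in a group containing a copy of `S`. -/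
def PointSection (S : Sylow 2 G) (A : Subgroup G) (a : G) : Prop :=
  ∃ (X : Type u) (_ : Group X) (_ : Finite X) (π : ↥(S : Subgroup G) →* X) (T : Sylow 2 X) (K : Subgroup X),
    Function.Injective π ∧ π.range = (T : Subgroup X) ∧ SecCtx T ((A.subgroupOf (S : Subgroup G)).map π) ∧
    Moved ((A.subgroupOf (S : Subgroup G)).map π) K ∧ GoldType (↥K ⧸ center ↥K) ∧
    ∀ h : a ∈ (S : Subgroup G), π ⟨a, h⟩ ∈ centralizer (K : Set X)

/-- The two outcomes at one point. -/
theorem quotient_or_four (hS : Setting S A) (hSC : (S : Subgroup G) ≤ centralizer (A : Set G))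
    (h8 : Nat.card A = 8) {a : G} (ha : a ∈ A) (ha1 : a ≠ 1) (hsec : PointSection S A a) :
    (∃ (M : Type u) (_ : Group M) (ψ : ↥(S : Subgroup G) →* M), (∀ s, ψ s * ψ s = 1) ∧
      ∃ a₀ : ↥(S : Subgroup G), (a₀ : G) ∈ A ∧ ψ a₀ ≠ 1) ∨ HasFour S A a := by
  classical
  haveI : Fact (Nat.Prime 2) := ⟨Nat.prime_two⟩
  obtain ⟨X, iX, iF, π, T, K, hπi, hπT, c, hm, htype, haK⟩ := hsec
  set Ab := (A.subgroupOf (S : Subgroup G)).map π with hAb
  have hπS : ∀ s, π s ∈ (T : Subgroup X) := fun s => hπT ▸ ⟨s, rfl⟩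
  have hAbc : ∀ s, ∀ w ∈ Ab, π s * w = w * π s := by
    rintro s _ ⟨w, hw, rfl⟩
    rw [← map_mul, ← map_mul]
    exact congrArg π (Subtype.ext (mem_centralizer_iff.1 (hSC s.2) _ hw).symm)
  -- `S` normalises the component
  have hN : ∀ s, π s ∈ normalizer (K : Set X) := fun s => by
    refine mem_normalizer_iff_map_conj_eq.2 ?_
    by_contra hne
    refine c.not_le_center hm fun w hw => mem_centralizer_iff.2 fun k hk => ?_
    have hc := commutator_eq_bot_iff_le_centralizer.1 (CfsgLib.Components.components_commute hm.1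
      (CfsgLib.Components.isComponent_map_equiv (MulAut.conj (π s)) hm.1) (Ne.symm hne)) hk
    refine (mem_centralizer_iff.1 hc w ⟨w, hw.2, ?_⟩).symm
    show π s * w * (π s)⁻¹ = w
    rw [hAbc s w hw.1, mul_inv_cancel_right]
  set π₀ : ↥(S : Subgroup G) →* ↥(normalizer (K : Set X)) := π.codRestrict _ hN
  set f : ↥(S : Subgroup G) →* MulAut (↥K ⧸ center ↥K) :=
    (CfsgLib.Signalizer.autModCenter ↥K).comp
      ((MulDistribMulAction.toMulAut ↥(normalizer (K : Set X)) ↥K).comp π₀) with hf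
  haveI := component_simple hm.1
  obtain ⟨P, hg, hB, hmemP⟩ := c.exists_quot hm
  set mk := QuotientGroup.mk' (center ↥K) with hmk
  set B := ((Ab ⊓ K).subgroupOf K).map mk with hBd
  have hna := component_quot_not_comm hm.1
  have hfval : ∀ s (w : ↥K), f s (mk w) =
      mk ⟨π s * w * (π s)⁻¹, (mem_normalizer_iff.1 (hN s) _).1 w.2⟩ := fun s w => rfl
  have hinner : ∀ s (h : π s ∈ K), f s = MulAut.conj (mk ⟨π s, h⟩) := fun s h => MulEquiv.ext fun q => by
    obtain ⟨w, rfl⟩ := QuotientGroup.mk'_surjective _ q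
    rw [MulAut.conj_apply, hfval, ← map_inv mk, ← map_mul mk, ← map_mul mk]
    rfl
  have hkill : ∀ h : a ∈ (S : Subgroup G), f ⟨a, h⟩ = 1 := fun h => MulEquiv.ext fun q => by
    obtain ⟨w, rfl⟩ := QuotientGroup.mk'_surjective _ q
    rw [MulAut.one_apply, hfval]
    refine congrArg mk (Subtype.ext ?_)
    show π ⟨a, h⟩ * (w : X) * (π ⟨a, h⟩)⁻¹ = w
    rw [← mem_centralizer_iff.1 (haK h) (w : X) w.2, mul_inv_cancel_right]
  have hlift : ∀ q ∈ B, ∃ s : ↥(S : Subgroup G), (s : G) ∈ A ∧ ∃ h : π s ∈ K, mk ⟨π s, h⟩ = q := by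
    rintro _ ⟨w, hw, rfl⟩
    obtain ⟨s, hs, hsw⟩ := (mem_subgroupOf.1 hw).1
    exact ⟨s, hs, hsw ▸ w.2, congrArg mk (Subtype.ext hsw)⟩
  have hcenter : center (↥K ⧸ center ↥K) = ⊥ := component_quot_center hm.1
  have hconj : ∀ q, MulAut.conj q = (1 : MulAut (↥K ⧸ center ↥K)) → q = 1 := fun q hq => by
    have h' : q ∈ center (↥K ⧸ center ↥K) := mem_center_iff.2 fun x => by
      have := congrArg (fun φ : MulAut (↥K ⧸ center ↥K) => φ x) hq
      simp only [MulAut.conj_apply, MulAut.one_apply, mul_inv_eq_iff_eq_mul] at this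
      exact this.symm
    rwa [hcenter, mem_bot] at h'
  have hB4 : Nat.card B = 4 := by
    refine le_antisymm ?_ (hg.four P B hB)
    set fA := f.comp (Subgroup.inclusion hS.closed.1) with hfA
    have hle : B.map (MulAut.conj : _ →* MulAut (↥K ⧸ center ↥K)) ≤ fA.range := by
      rintro _ ⟨q, hq, rfl⟩
      obtain ⟨s, hs, h, rfl⟩ := hlift q hq
      exact ⟨⟨s, hs⟩, hinner s h⟩
    have h1 : Nat.card fA.ker * Nat.card fA.range = 8 := by
      rw [← h8, ← index_ker, card_mul_index]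
    have h2 : 2 ≤ Nat.card fA.ker := by
      haveI : Nontrivial fA.ker :=
        ⟨⟨⟨⟨a, ha⟩, hkill (hS.closed.1 ha)⟩, 1, fun h => ha1 (congrArg (fun x : ↥fA.ker => ((x : ↥A) : G)) h)⟩⟩
      exact Finite.one_lt_card
    have h3 := card_le_of_le hle
    rw [card_map_of_injective (f := (MulAut.conj : _ →* MulAut (↥K ⧸ center ↥K)))
      ((injective_iff_map_eq_one _).2 hconj)] at h3
    have h4 : 2 * Nat.card fA.range ≤ 8 := h1 ▸ Nat.mul_le_mul_right _ h2
    omega
  by_cases hab : IsMulCommutative (P : Subgroup (↥K ⧸ center ↥K))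
  · -- an abelian Sylow subgroup: `f` is elementary
    refine Or.inl ⟨MulAut (↥K ⧸ center ↥K), inferInstance, f, fun s => ?_, ?_⟩
    · have hBP := hg.abelian P B hB hab
      have hfix : ∀ q ∈ (P : Subgroup (↥K ⧸ center ↥K)), f s q = q := fun q hq => by
        obtain ⟨v, hv, h, rfl⟩ := hlift q (hBP.symm ▸ hq)
        rw [hfval]
        refine congrArg mk (Subtype.ext ?_)
        show π s * π v * (π s)⁻¹ = π v
        rw [hAbc s _ (mem_map_of_mem π hv), mul_inv_cancel_right]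
      obtain ⟨k, hk⟩ := S.2 s
      obtain ⟨x, hx, hfx⟩ := CfsgLib.Walter.Sections.aut_inner hna P hab (f s)
        (by
          obtain ⟨i, -, hi⟩ := (Nat.dvd_prime_pow Nat.prime_two).1 (orderOf_dvd_of_pow_eq_one
            (show (f s) ^ 2 ^ k = 1 by rw [← map_pow, hk, map_one]))
          exact ⟨i, hi⟩) hfix
      rw [hfx, ← map_mul, hB.sq x (hBP.symm ▸ hx), map_one]
    · obtain ⟨q, hq, hq1⟩ := (bot_or_exists_ne_one B).resolve_left hB.ne
      obtain ⟨v, hv, h, rfl⟩ := hlift q hq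
      exact ⟨v, hv, fun he => hq1 (hconj _ (hinner v h ▸ he))⟩
  right
  -- a non-abelian Sylow subgroup
  have hemb : (∀ Q : Sylow 2 (↥K ⧸ center ↥K), ¬ IsMulCommutative (Q : Subgroup (↥K ⧸ center ↥K))) ∧
      ∃ H : Subgroup (↥K ⧸ center ↥K), Cfsg.IsStronglyEmbedded H := by
    rcases htype with hW | h
    · exfalso
      rcases CfsgLib.Walter.type_facts hW with ⟨hsq, -⟩ | ⟨E, hE, hE8⟩
      · exact hab (comm_of_sq fun x hx => hsq P x hx)
      · have hp : IsPGroup 2 E := fun x => ⟨1, Subtype.ext (by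
          rw [Subgroup.coe_pow, pow_one, pow_two]; exact hE x x.2)⟩
        obtain ⟨Q, hQ⟩ := hp.exists_le_sylow
        obtain ⟨g, hgQ⟩ := MulAction.exists_smul_eq (↥K ⧸ center ↥K) Q P
        have hle : E.map (MulAut.conj g).toMonoidHom ≤ B := by
          rintro _ ⟨x, hx, rfl⟩
          have hP : g * x * g⁻¹ ∈ (P : Subgroup (↥K ⧸ center ↥K)) := by
            rw [← hgQ, Sylow.coe_subgroup_smul]
            exact ⟨x, hQ hx, rfl⟩
          by_cases h1 : g * x * g⁻¹ = 1
          · show g * x * g⁻¹ ∈ B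
            exact h1.symm ▸ one_mem B
          · exact hg.involutions P B hB _ hP (CfsgLib.Signalizer.orderOf_eq_two_of h1 (by
              show g * x * g⁻¹ * (g * x * g⁻¹) = 1
              rw [conj_mul, hE x hx]; group))
        have := card_le_of_le hle
        rw [card_map_of_injective (f := (MulAut.conj g).toMonoidHom) (MulAut.conj g).injective, hB4] at this
        omega
    · exact h
  have hcover : CfsgLib.CentralMeet.OddCover (↥K ⧸ center ↥K) := (hg.small P B hB hB4).resolve_left hab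
  have hperf : Group.IsPerfect ↥K := hm.1.2.1
  have hkerodd := hcover ↥K mk hperf (QuotientGroup.mk'_surjective _)
    (le_of_eq (QuotientGroup.ker_mk' _))
  have hZ : ∀ w : ↥K, mk w = 1 → w = 1 := by
    intro w hw
    have hwc : w ∈ center ↥K := (QuotientGroup.eq_one_iff w).1 hw
    have h2 : (w : X) ∈ Cfsg.pCore 2 X := c.center_le hm.1
      ⟨w.2, mem_centralizer_iff.2 fun k hk => congrArg Subtype.val (mem_center_iff.1 hwc ⟨k, hk⟩)⟩
    obtain ⟨i, hi⟩ := (CfsgLib.Core.isPGroup_pCore 2 X) ⟨(w : X), h2⟩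
    have h3 : w ^ 2 ^ i = 1 := Subtype.ext (congrArg Subtype.val hi :)
    exact orderOf_eq_one_iff.1 (Nat.eq_one_of_dvd_coprimes ((Nat.coprime_two_left.2 hkerodd).pow_left i)
      (orderOf_dvd_of_pow_eq_one h3) (mk.ker.orderOf_dvd_natCard hw))
  set R := (K.comap π).map (S : Subgroup G).subtype with hR
  have hRS : R ≤ (S : Subgroup G) := map_subtype_le _
  have hRK : ∀ r : ↥R, π ⟨(r : G), hRS r.2⟩ ∈ K := fun r => by
    obtain ⟨s, hs, hsr⟩ := r.2
    rw [show (⟨(r : G), hRS r.2⟩ : ↥(S : Subgroup G)) = s from Subtype.ext hsr.symm]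
    exact hs
  let e : ↥R →* ↥K ⧸ center ↥K := MonoidHom.mk' (fun r => mk ⟨π ⟨(r : G), hRS r.2⟩, hRK r⟩) fun r r' => by
    rw [← map_mul]
    exact congrArg mk (Subtype.ext (map_mul π ⟨(r : G), hRS r.2⟩ ⟨(r' : G), hRS r'.2⟩))
  refine ⟨↥K ⧸ center ↥K, inferInstance, inferInstance, R, P, B, f, e,
    ⟨component_simple hm.1, hemb.1, hemb.2, hg, hB, hB4⟩, hRS, fun s hs r hr => ?_,
    (injective_iff_map_eq_one _).2 fun r hr => ?_, fun r => (hmemP _).2 (hπS _), fun t ht => ?_,
    fun r => hinner _ (hRK r), fun r => ⟨fun hr => ?_, fun hr => ?_⟩, hkill⟩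
  · refine ⟨⟨s, hs⟩ * ⟨r, hRS hr⟩ * ⟨s, hs⟩⁻¹, ?_, rfl⟩
    show π _ ∈ K
    rw [map_mul, map_mul, map_inv]
    exact (mem_normalizer_iff.1 (hN ⟨s, hs⟩) _).1 (hRK ⟨r, hr⟩)
  · have h1 := hZ _ hr
    have h2 : π ⟨(r : G), hRS r.2⟩ = π 1 := (congrArg Subtype.val h1).trans (map_one π).symm
    exact Subtype.ext (congrArg Subtype.val (hπi h2) :)
  · obtain ⟨w, rfl⟩ := QuotientGroup.mk'_surjective (center ↥K) t
    obtain ⟨s, hs⟩ : (w : X) ∈ π.range := hπT.symm ▸ (hmemP w).1 ht
    exact ⟨⟨(s : G), s, show π s ∈ K from hs.symm ▸ w.2, rfl⟩, congrArg mk (Subtype.ext hs)⟩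
  · exact ⟨_, mem_subgroupOf.2 ⟨mem_map_of_mem π (show (⟨(r : G), hRS r.2⟩ : ↥(S : Subgroup G)) ∈
      A.subgroupOf (S : Subgroup G) from hr), hRK r⟩, rfl⟩
  · obtain ⟨w, hw, hwr⟩ := hr
    have h1 : w = ⟨π ⟨(r : G), hRS r.2⟩, hRK r⟩ := mul_inv_eq_one.1 (hZ _ (by rw [map_mul, map_inv, hwr]; exact mul_inv_cancel _))
    obtain ⟨s, hs, hsw⟩ := (mem_subgroupOf.1 hw).1
    rw [h1] at hsw
    exact (congrArg Subtype.val (hπi hsw)) ▸ hs

/-- **Case III.** -/
theorem rankThree (hS : Setting S A) (h8 : Nat.card A = 8)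
    (hodd : Odd ((centralizer (A : Set G)).relIndex (normalizer (A : Set G))))
    (hsec : ∀ a ∈ A, a ≠ 1 → PointSection S A a) : False := by
  have hSC := le_centralizer_of_odd hS hodd
  refine false_of_points hS hSC h8 fun a ha ha1 => ?_
  rcases quotient_or_four hS hSC h8 ha ha1 (hsec a ha ha1) with ⟨M, iM, ψ, hψ, a₀, ha₀, hne⟩ | h
  · exact (false_of_quotient hS hodd ψ hψ ha₀ hne).elim
  · exact h

end CfsgLib.Invol.Goldschmidt.RankThree
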